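import Groth.Agent.SSet16.Cosk
import Mathlib.AlgebraicTopology.SimplicialObject.Homotopy
import Mathlib.AlgebraicTopology.SimplicialSet.Homotopy

/-!
Two maps into an `n`-coskeletal simplicial object which agree below degree `n` are homotopic.
-/

set_option autoImplicit false
set_option linter.style.haveILetI false

namespace Groth.Agent.SSet16

open CategoryTheory CategoryTheory.Limits Simplicial SimplexCategory SimplexCategory.Truncated Opposite

universe v u

variable {E : Type u} [Category.{v} E] {Z W : SimplicialObject E} (F G : Z ⟶ W) (n : ℕ)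

lemma map_comp_eq (hFG : ∀ p, p < n → F.app (op ⦋p⦌) = G.app (op ⦋p⦌)) {k k' : ℕ} (hk : k ≤ n)
    (hk' : k' ≤ n) (θ : ⦋k'⦌ ⟶ ⦋k⦌) :
    (∀ (a : Bool), Z.map θ.op ≫ (cond a F G).app (op ⦋k'⦌) = Z.map θ.op ≫ F.app (op ⦋k'⦌)) ∨
      (∃ h : k = k', θ ≫ eqToHom (congrArg _ h) = 𝟙 _) := by
  have sw : ∀ {j : ℕ}, j < n → ∀ a : Bool, (cond a F G).app (op ⦋j⦌) = F.app (op ⦋j⦌) := fun hj a => by
    cases a
    · exact (hFG _ hj).symm
    · rfl
  rcases hk'.lt_or_eq with h | h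
  · exact Or.inl fun a => by rw [sw h]
  rcases hk.lt_or_eq with h₂ | h₂
  · exact Or.inl fun a => by rw [(cond a F G).naturality, F.naturality, sw h₂]
  have hkk : k = k' := h₂.trans h.symm
  subst hkk
  subst h
  by_cases hθ : Function.Injective θ.toOrderHom
  · haveI : Mono θ := SimplexCategory.mono_iff_injective.2 hθ
    exact Or.inr ⟨rfl, by rw [SimplexCategory.eq_id_of_mono θ]; exact Category.id_comp _⟩
  · cases k with
    | zero => exact absurd (fun a b _ => Subsingleton.elim (α := Fin 1) a b) hθ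
    | succ p =>
      obtain ⟨i, θ', rfl⟩ := SimplexCategory.eq_σ_comp_of_not_injective θ hθ
      refine Or.inl fun a => ?_
      rw [op_comp, Functor.map_comp, Category.assoc, Category.assoc, (cond a F G).naturality,
        F.naturality, sw (Nat.lt_succ_self p)]

/-- the component chosen on a simplex of the interval -/
def comp (k : ℕ) (β : ⦋k⦌ ⟶ ⦋1⦌) : Z.obj (op ⦋k⦌) ⟶ W.obj (op ⦋k⦌) :=
  (cond (decide (∀ j, β.toOrderHom j = 1)) G F).app (op ⦋k⦌)

lemma comp_nat (hFG : ∀ p, p < n → F.app (op ⦋p⦌) = G.app (op ⦋p⦌)) {k k' : ℕ} (hk : k ≤ n)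
    (hk' : k' ≤ n) (θ : ⦋k'⦌ ⟶ ⦋k⦌) (β : ⦋k⦌ ⟶ ⦋1⦌) :
    Z.map θ.op ≫ comp F G k' (θ ≫ β) = comp F G k β ≫ W.map θ.op := by
  unfold comp
  rw [← (cond (decide (∀ j, β.toOrderHom j = 1)) G F).naturality]
  rcases map_comp_eq F G n hFG hk hk' θ with h | ⟨rfl, h⟩
  · have hG := h false
    have hF := h true
    simp only [cond_false, cond_true] at hG hF
    cases decide (∀ j, (θ ≫ β).toOrderHom j = 1) <;>
      cases decide (∀ j, β.toOrderHom j = 1) <;> simp [hG, hF]
  · rw [eqToHom_refl, Category.comp_id] at h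
    subst h
    simp only [Category.id_comp]

variable [W.IsCoskeletal n] [HasFiniteLimits E]

open SimplicialObject.Truncated in
lemma isLimit_coneAt (Δ : SimplexCategoryᵒᵖ) :
    Nonempty (IsLimit ((rightExtensionInclusion W n).coneAt Δ)) :=
  haveI := hasPointwiseRan (C := E) n ((SimplexCategory.Truncated.inclusion n).op ⋙ W)
  ⟨Functor.isPointwiseRightKanExtensionOfIsRightKanExtension W
    (𝟙 ((SimplexCategory.Truncated.inclusion n).op ⋙ W)) Δ⟩

lemma exists_cyl (hFG : ∀ p, p < n → F.app (op ⦋p⦌) = G.app (op ⦋p⦌)) :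
    ∃ K : ∀ m : ℕ, (⦋m⦌ ⟶ ⦋1⦌) → (Z.obj (op ⦋m⦌) ⟶ W.obj (op ⦋m⦌)),
      (∀ (m m' : ℕ) (θ : ⦋m'⦌ ⟶ ⦋m⦌) (α : ⦋m⦌ ⟶ ⦋1⦌),
        K m α ≫ W.map θ.op = Z.map θ.op ≫ K m' (θ ≫ α)) ∧
      (∀ (m : ℕ) (α : ⦋m⦌ ⟶ ⦋1⦌), (∀ j, α.toOrderHom j = 1) → K m α = G.app _) ∧
      (∀ (m : ℕ) (α : ⦋m⦌ ⟶ ⦋1⦌), (∀ j, α.toOrderHom j = 0) → K m α = F.app _) := by
  let lim := fun m : ℕ => (isLimit_coneAt (W := W) n (op ⦋m⦌)).some
  let Q : ∀ (k : SimplexCategory.Truncated n), (k.obj ⟶ ⦋1⦌) → (Z.obj (op k.obj) ⟶ W.obj (op k.obj)) :=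
    fun k β => comp F G k.obj.len β
  have hQ : ∀ (k k' : SimplexCategory.Truncated n) (θ : k'.obj ⟶ k.obj) (β : k.obj ⟶ ⦋1⦌),
      Z.map θ.op ≫ Q k' (θ ≫ β) = Q k β ≫ W.map θ.op := fun k k' θ β =>
    comp_nat F G n hFG k.property k'.property θ β
  let hom : ∀ {m : ℕ} (j : StructuredArrow (op ⦋m⦌) (SimplexCategory.Truncated.inclusion n).op),
      j.right.unop.obj ⟶ ⦋m⦌ := fun {m} j => (show op ⦋m⦌ ⟶ op j.right.unop.obj from j.hom).unop
  let c : ∀ (m : ℕ), (⦋m⦌ ⟶ ⦋1⦌) → Cone (StructuredArrow.proj (op ⦋m⦌)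
      (SimplexCategory.Truncated.inclusion n).op ⋙ (SimplexCategory.Truncated.inclusion n).op ⋙ W) :=
    fun m α =>
    { pt := Z.obj (op ⦋m⦌)
      π :=
        { app := fun j => Z.map (hom j).op ≫ Q j.right.unop (hom j ≫ α)
          naturality := fun i j f => by
            refine (Category.id_comp (Z.map (hom j).op ≫ Q j.right.unop (hom j ≫ α))).trans ?_
            let θ : j.right.unop.obj ⟶ i.right.unop.obj := f.right.unop.hom
            have hw : hom j = θ ≫ hom i := congrArg Quiver.Hom.unop (StructuredArrow.w f).symm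
            show Z.map (hom j).op ≫ Q j.right.unop (hom j ≫ α) =
              (Z.map (hom i).op ≫ Q i.right.unop (hom i ≫ α)) ≫ W.map θ.op
            rw [hw, Category.assoc, Category.assoc, ← hQ i.right.unop j.right.unop θ (hom i ≫ α),
              op_comp, Functor.map_comp, Category.assoc] } }
  let K : ∀ m : ℕ, (⦋m⦌ ⟶ ⦋1⦌) → (Z.obj (op ⦋m⦌) ⟶ W.obj (op ⦋m⦌)) := fun m α => (lim m).lift (c m α)
  have hK : ∀ (m : ℕ) (α : ⦋m⦌ ⟶ ⦋1⦌)
      (j : StructuredArrow (op ⦋m⦌) (SimplexCategory.Truncated.inclusion n).op),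
      K m α ≫ W.map (hom j).op = Z.map (hom j).op ≫ Q j.right.unop (hom j ≫ α) := fun m α j =>
    (congrArg (K m α ≫ ·) (Category.comp_id (W.map (hom j).op)).symm).trans ((lim m).fac (c m α) j)
  have ext : ∀ {A : E} (m : ℕ) (a b : A ⟶ W.obj (op ⦋m⦌)),
      (∀ j : StructuredArrow (op ⦋m⦌) (SimplexCategory.Truncated.inclusion n).op,
        a ≫ W.map (hom j).op = b ≫ W.map (hom j).op) → a = b := fun m a b hab =>
    (lim m).hom_ext fun j => (congrArg (a ≫ ·) (Category.comp_id (W.map (hom j).op))).trans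
      ((hab j).trans (congrArg (b ≫ ·) (Category.comp_id (W.map (hom j).op))).symm)
  refine ⟨K, fun m m' θ α => ext m' _ _ fun j => ?_, fun m α hα => ext m _ _ fun j => ?_,
    fun m α hα => ext m _ _ fun j => ?_⟩
  · let j' : StructuredArrow (op ⦋m⦌) (SimplexCategory.Truncated.inclusion n).op :=
      StructuredArrow.mk (Y := j.right) (show op ⦋m⦌ ⟶ op j.right.unop.obj from (hom j ≫ θ).op)
    have hh := hK m α j'
    change K m α ≫ W.map (hom j ≫ θ).op = Z.map (hom j ≫ θ).op ≫ Q j.right.unop ((hom j ≫ θ) ≫ α)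
      at hh
    rw [Category.assoc, Category.assoc, hK m' (θ ≫ α) j, ← Functor.map_comp, ← op_comp, hh,
      op_comp, Functor.map_comp, Category.assoc, Category.assoc]
  · rw [hK, ← G.naturality]
    show _ ≫ (cond (decide _) G F).app _ = _
    rw [decide_eq_true (p := ∀ x, (hom j ≫ α).toOrderHom x = 1) (fun x => hα _)]
    rfl
  · rw [hK, ← F.naturality]
    show _ ≫ (cond (decide _) G F).app _ = _
    rw [decide_eq_false (p := ∀ x, (hom j ≫ α).toOrderHom x = 1) (fun h => by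
      have := (hα _).symm.trans (h 0)
      exact absurd this (by decide))]
    rfl

lemma succAbove_val {k : ℕ} (p : Fin (k + 1)) (x : Fin k) :
    ((p.succAbove x : Fin (k + 1)) : ℕ) = if (x : ℕ) < (p : ℕ) then (x : ℕ) else (x : ℕ) + 1 := by
  simp only [Fin.succAbove, Fin.lt_def, Fin.val_castSucc]
  split_ifs <;> simp

lemma predAbove_val {k : ℕ} (p : Fin k) (x : Fin (k + 1)) :
    ((p.predAbove x : Fin k) : ℕ) = if (p : ℕ) < (x : ℕ) then (x : ℕ) - 1 else (x : ℕ) := by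
  simp only [Fin.predAbove, Fin.lt_def, Fin.val_castSucc]
  split_ifs <;> simp

lemma ite_congr_fin {p q : Prop} [Decidable p] [Decidable q] (h : p ↔ q) :
    (if p then 0 else 1 : Fin 2) = if q then 0 else 1 := by
  by_cases hp : p
  · rw [if_pos hp, if_pos (h.1 hp)]
  · rw [if_neg hp, if_neg (fun hq => hp (h.2 hq))]

/-- the map `[m + 1] → [1]` jumping after `i` -/
def jump {m : ℕ} (i : Fin (m + 1)) : ⦋m + 1⦌ ⟶ ⦋1⦌ :=
  SimplexCategory.Hom.mk
    ⟨fun (j : Fin (m + 2)) => (if (j : ℕ) ≤ (i : ℕ) then 0 else 1 : Fin 2), fun a b hab => by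
      have : (a : ℕ) ≤ (b : ℕ) := hab
      dsimp only
      split_ifs <;> first | exact le_refl _ | exact Fin.zero_le _ | omega⟩

lemma jump_apply {m : ℕ} (i : Fin (m + 1)) (j : Fin (m + 2)) :
    (jump i).toOrderHom j = (if (j : ℕ) ≤ (i : ℕ) then 0 else 1 : Fin 2) := rfl

omit [W.IsCoskeletal n] [HasFiniteLimits E] in
lemma homotopy_of_cyl (K : ∀ m : ℕ, (⦋m⦌ ⟶ ⦋1⦌) → (Z.obj (op ⦋m⦌) ⟶ W.obj (op ⦋m⦌)))
    (hK : ∀ (m m' : ℕ) (θ : ⦋m'⦌ ⟶ ⦋m⦌) (α : ⦋m⦌ ⟶ ⦋1⦌),
      K m α ≫ W.map θ.op = Z.map θ.op ≫ K m' (θ ≫ α))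
    (h1 : ∀ (m : ℕ) (α : ⦋m⦌ ⟶ ⦋1⦌), (∀ j, α.toOrderHom j = 1) → K m α = G.app _)
    (h0 : ∀ (m : ℕ) (α : ⦋m⦌ ⟶ ⦋1⦌), (∀ j, α.toOrderHom j = 0) → K m α = F.app _) :
    Nonempty (SimplicialObject.Homotopy F G) := by
  have step : ∀ {m m' : ℕ} (i : Fin (m + 1)) (θ : ⦋m'⦌ ⟶ ⦋m + 1⦌),
      (Z.σ i ≫ K (m + 1) (jump i)) ≫ W.map θ.op =
        Z.map (θ ≫ SimplexCategory.σ i).op ≫ K m' (θ ≫ jump i) := fun i θ => by
    rw [Category.assoc, hK, op_comp, Functor.map_comp, Category.assoc]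
    rfl
  have hj : ∀ {m m' : ℕ} (θ : ⦋m'⦌ ⟶ ⦋m + 1⦌) (i : Fin (m + 1)) (β : ⦋m'⦌ ⟶ ⦋1⦌),
      (∀ x : Fin (m' + 1), (if ((θ.toOrderHom x : Fin (m + 2)) : ℕ) ≤ (i : ℕ) then 0 else 1 : Fin 2)
        = β.toOrderHom x) → θ ≫ jump i = β := fun θ i β h =>
    SimplexCategory.Hom.ext _ _ (OrderHom.ext _ _ (funext fun x => h x))
  refine ⟨{ h := fun {m} i => Z.σ i ≫ K (m + 1) (jump i)
            h_zero_comp_δ_zero := fun m => ?_
            h_last_comp_δ_last := fun m => ?_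
            h_succ_comp_δ_castSucc_of_lt := fun {m} i j hij => ?_
            h_succ_comp_δ_castSucc_succ := fun {m} j => ?_
            h_castSucc_comp_δ_succ_of_lt := fun {m} i j hij => ?_
            h_comp_σ_castSucc_of_le := fun {m} i j hij => ?_
            h_comp_σ_succ_of_lt := fun {m} i j hij => ?_ }⟩
  · refine (step 0 (SimplexCategory.δ 0)).trans ?_
    rw [h1 _ _ fun x => ?_, SimplexCategory.δ_comp_σ_self' (by simp)]
    · simp
    · show (jump 0).toOrderHom (Fin.succAbove 0 x) = _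
      rw [jump_apply, if_neg (by simp)]
  · refine (step (Fin.last m) (SimplexCategory.δ (Fin.last (m + 1)))).trans ?_
    rw [h0 _ _ fun x => ?_, SimplexCategory.δ_comp_σ_succ' (by simp)]
    · simp
    · show (jump (Fin.last m)).toOrderHom (Fin.succAbove (Fin.last (m + 1)) x) = _
      rw [jump_apply, if_pos (by simp [Fin.succAbove_last, Nat.le_of_lt_succ x.2])]
  · refine (step j.succ (SimplexCategory.δ i.castSucc)).trans ?_
    rw [SimplexCategory.δ_comp_σ_of_le hij, hj _ _ (jump j) fun x => ?_]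
    · rw [op_comp, Functor.map_comp, Category.assoc]; rfl
    · rw [jump_apply]
      show (if ((Fin.succAbove i.castSucc x : Fin (m + 3)) : ℕ) ≤ _ then _ else _) = _
      refine ite_congr_fin ?_
      simp only [succAbove_val, predAbove_val, Fin.lt_def, Fin.le_def, Fin.val_succ, Fin.val_castSucc] at hij ⊢
      split_ifs <;> omega
  · refine (step j.succ (SimplexCategory.δ j.castSucc.succ)).trans (Eq.trans ?_
      (step j.castSucc (SimplexCategory.δ j.castSucc.succ)).symm)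
    rw [SimplexCategory.δ_comp_σ_self' (by simp), SimplexCategory.δ_comp_σ_succ' rfl,
      hj _ j.succ _ fun x => ?_]
    rw [show ∀ a : Fin (m + 2), (SimplexCategory.δ j.castSucc.succ ≫ jump j.castSucc).toOrderHom a
      = (if ((Fin.succAbove j.castSucc.succ a : Fin (m + 3)) : ℕ) ≤ (j : ℕ) then 0 else 1 : Fin 2)
      from fun a => rfl]
    show (if ((Fin.succAbove j.castSucc.succ x : Fin (m + 3)) : ℕ) ≤ _ then _ else _) = _
    refine ite_congr_fin ?_
    simp only [succAbove_val, Fin.val_succ, Fin.val_castSucc]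
    split_ifs <;> omega
  · refine (step j.castSucc (SimplexCategory.δ i.succ)).trans ?_
    rw [SimplexCategory.δ_comp_σ_of_gt hij, hj _ _ (jump j) fun x => ?_]
    · rw [op_comp, Functor.map_comp, Category.assoc]; rfl
    · rw [jump_apply]
      show (if ((Fin.succAbove i.succ x : Fin (m + 3)) : ℕ) ≤ _ then _ else _) = _
      refine ite_congr_fin ?_
      simp only [succAbove_val, predAbove_val, Fin.lt_def, Fin.le_def, Fin.val_succ, Fin.val_castSucc] at hij ⊢
      split_ifs <;> omega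
  · refine (step j (SimplexCategory.σ i.castSucc)).trans ?_
    rw [SimplexCategory.σ_comp_σ hij, hj _ _ (jump j.succ) fun x => ?_]
    · rw [op_comp, Functor.map_comp, Category.assoc]; rfl
    · rw [jump_apply]
      show (if ((Fin.predAbove i.castSucc x : Fin (m + 2)) : ℕ) ≤ _ then _ else _) = _
      refine ite_congr_fin ?_
      simp only [succAbove_val, predAbove_val, Fin.lt_def, Fin.le_def, Fin.val_succ, Fin.val_castSucc] at hij ⊢
      split_ifs <;> omega
  · refine (step j (SimplexCategory.σ i.succ)).trans ?_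
    rw [← SimplexCategory.σ_comp_σ hij, hj _ _ (jump j.castSucc) fun x => ?_]
    · rw [op_comp, Functor.map_comp, Category.assoc]; rfl
    · rw [jump_apply]
      show (if ((Fin.predAbove i.succ x : Fin (m + 2)) : ℕ) ≤ _ then _ else _) = _
      refine ite_congr_fin ?_
      simp only [succAbove_val, predAbove_val, Fin.lt_def, Fin.le_def, Fin.val_succ, Fin.val_castSucc] at hij ⊢
      split_ifs <;> omega

lemma exists_homotopy (hFG : ∀ p, p < n → F.app (op ⦋p⦌) = G.app (op ⦋p⦌)) :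
    Nonempty (SimplicialObject.Homotopy F G) := by
  obtain ⟨K, hK, h1, h0⟩ := exists_cyl F G n hFG
  exact homotopy_of_cyl F G K hK h1 h0

end Groth.Agent.SSet16
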