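import Mathlib.AlgebraicTopology.SimplicialObject.ChainHomotopy
import Mathlib.AlgebraicTopology.AlternatingFaceMapComplex
import Mathlib.CategoryTheory.Limits.FormalCoproducts.Cech
import Mathlib.Algebra.Homology.Homotopy
import Groth.Agent.SSet16.CoskHomotopy

/-!
# Simplicial homotopies and alternating coface complexes; homotopic maps of Čech objects
-/

set_option autoImplicit false
set_option backward.isDefEq.respectTransparency false
set_option linter.all false

universe w v u v' u'

open CategoryTheory CategoryTheory.Limits Opposite Simplicial AlgebraicTopology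

namespace Groth.Agent.SSet16

section

variable {D : Type u'} [Category.{v'} D] {A : Type u} [Category.{v} A] [Preadditive A]
  {K L : SimplicialObject D} (E : Dᵒᵖ ⥤ A)

/-- the cosimplicial object obtained by evaluating a contravariant functor -/
abbrev cosimp (K : SimplicialObject D) : CosimplicialObject A := K.rightOp ⋙ E

/-- the induced map of complexes -/
noncomputable abbrev cofaceMap (f : L ⟶ K) :
    (alternatingCofaceMapComplex A).obj (cosimp E K) ⟶ (alternatingCofaceMapComplex A).obj (cosimp E L) :=
  (alternatingCofaceMapComplex A).map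
    (((Functor.whiskeringLeft _ _ _).map (NatTrans.rightOp f)).app E)

/-- the simplicial object in the opposite category -/
abbrev simpOp (K : SimplicialObject D) : SimplicialObject Aᵒᵖ :=
  ((SimplicialObject.whiskering D Aᵒᵖ).obj E.rightOp).obj K

theorem d_unop (K : SimplicialObject D) (n : ℕ) :
    (((alternatingFaceMapComplex Aᵒᵖ).obj (simpOp E K)).d (n + 1) n).unop =
      ((alternatingCofaceMapComplex A).obj (cosimp E K)).d n (n + 1) := by
  change _ = (AlternatingCofaceMapComplex.obj (cosimp E K)).d n (n + 1)
  rw [alternatingFaceMapComplex_obj_d]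
  unfold AlternatingCofaceMapComplex.obj
  refine Eq.trans ?_ (CochainComplex.of_d (fun n => (cosimp E K).obj ⦋n⦌) (AlternatingCofaceMapComplex.objD (cosimp E K)) n).symm
  rw [AlternatingCofaceMapComplex.d_eq_unop_d]
  rfl

/-- A simplicial homotopy gives a homotopy of alternating coface complexes. -/
noncomputable def cofaceHomotopy {f g : L ⟶ K} (H : SimplicialObject.Homotopy f g) :
    Homotopy (cofaceMap E f) (cofaceMap E g) :=
  let h := (H.whiskerRight E.rightOp).toChainHomotopy
  { hom := fun i j => (h.hom j i).unop
    zero := fun i j hij => by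
      have := h.zero j i (fun hji => hij (by simpa using hji))
      rw [this]
      rfl
    comm := fun n => by
      cases n with
      | zero =>
        rw [dNext_eq (i' := 1) (w := by simp), prevD_eq_zero _ _ (by simp), add_zero]
        have := h.comm 0
        rw [prevD_eq (j' := 1) (w := by simp), dNext_eq_zero _ _ (by simp), zero_add] at this
        have h2 := congrArg Quiver.Hom.unop this
        rw [unop_add, unop_comp, d_unop] at h2
        exact h2
      | succ n =>
        rw [dNext_eq (i' := n + 2) (w := by simp), prevD_eq (j' := n) (w := by simp)]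
        have := h.comm (n + 1)
        rw [dNext_eq (i' := n) (w := by simp), prevD_eq (j' := n + 2) (w := by simp)] at this
        have h2 := congrArg Quiver.Hom.unop this
        rw [unop_add, unop_add, unop_comp, unop_comp, d_unop, d_unop] at h2
        exact h2.trans (congrArg (· + _) (add_comm _ _)) }

theorem homologyMap_cofaceMap_eq [CategoryWithHomology A] {f g : L ⟶ K}
    (h : Nonempty (SimplicialObject.Homotopy f g)) (q : ℕ) :
    HomologicalComplex.homologyMap (cofaceMap E f) q = HomologicalComplex.homologyMap (cofaceMap E g) q :=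
  (cofaceHomotopy E h.some).homologyMap_eq q

end

section Cech

variable {C : Type u} [Category.{v} C] [HasFiniteProducts C] {U V : FormalCoproduct.{w} C}

theorem mapPower_powerπ {α β : Type} [Finite α] [Finite β] (θ : α → β) (a : α) :
    U.mapPower θ ≫ U.powerπ a = U.powerπ (θ a) := by
  ext i
  · rfl
  · simp
    exact Pi.lift_π _ _

theorem powerMap_powerπ (f : U ⟶ V) {α : Type} [Finite α] (a : α) :
    FormalCoproduct.powerMap f α ≫ V.powerπ a = U.powerπ a ≫ f := by
  ext i
  · rfl
  · simp
    exact Pi.map_π _ _

/-- Two maps induce homotopic maps of Čech objects. -/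
theorem nonempty_homotopy_cech (f g : U ⟶ V) :
    Nonempty (SimplicialObject.Homotopy (FormalCoproduct.cechFunctor.map f) (FormalCoproduct.cechFunctor.map g)) := by
  let e : Fin 2 → (U ⟶ V) := fun x => if x = 1 then g else f
  let K : ∀ m : ℕ, (⦋m⦌ ⟶ ⦋1⦌) → (U.cech.obj (op ⦋m⦌) ⟶ V.cech.obj (op ⦋m⦌)) := fun m α =>
    Fan.IsLimit.lift (V.isLimitPowerFan (Fin (m + 1))) fun j => U.powerπ j ≫ e (α.toOrderHom j)
  have hK : ∀ m α (j : Fin (m + 1)), K m α ≫ V.powerπ j = U.powerπ j ≫ e (α.toOrderHom j) := fun m α j =>
    Fan.IsLimit.fac (V.isLimitPowerFan (Fin (m + 1))) _ j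
  refine homotopy_of_cyl _ _ K (fun m m' θ α => ?_) (fun m α hα => ?_) (fun m α hα => ?_)
  · refine Fan.IsLimit.hom_ext (V.isLimitPowerFan (Fin (m' + 1))) _ _ fun j => ?_
    change (K m α ≫ V.mapPower θ.toOrderHom) ≫ V.powerπ j = (U.mapPower θ.toOrderHom ≫ K m' (θ ≫ α)) ≫ V.powerπ j
    rw [Category.assoc, Category.assoc, mapPower_powerπ, hK, hK, ← Category.assoc, mapPower_powerπ]
    rfl
  · refine Fan.IsLimit.hom_ext (V.isLimitPowerFan (Fin (m + 1))) _ _ fun j => ?_
    change K m α ≫ V.powerπ j = FormalCoproduct.powerMap g _ ≫ V.powerπ j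
    rw [hK, powerMap_powerπ, hα]
    rfl
  · refine Fan.IsLimit.hom_ext (V.isLimitPowerFan (Fin (m + 1))) _ _ fun j => ?_
    change K m α ≫ V.powerπ j = FormalCoproduct.powerMap f _ ≫ V.powerπ j
    rw [hK, powerMap_powerπ, hα]
    rfl

end Cech

end Groth.Agent.SSet16
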