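import Groth.Agent.SSet16.Filler
import Mathlib.AlgebraicTopology.SimplicialSet.KanComplex
import Mathlib.AlgebraicTopology.SimplicialSet.CategoryWithFibrations
import Mathlib.AlgebraicTopology.SimplicialSet.HornColimits
import Mathlib.Algebra.Category.Grp.EquivalenceGroupAddGroup

/-!
Simplicial groups are Kan complexes; surjections of simplicial abelian groups are Kan fibrations.
-/

set_option autoImplicit false
set_option linter.style.haveILetI false

namespace Groth.Agent.SSet16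

open CategoryTheory Simplicial Opposite

universe u

variable (G : SimplicialObject GrpCat.{u})

lemma δ_σ_id {n : ℕ} (i : Fin (n + 1)) (y : G _⦋n⦌) :
    G.δ i.castSucc (G.σ i y) = y ∧ G.δ i.succ (G.σ i y) = y :=
  ⟨ConcreteCategory.congr_hom G.δ_comp_σ_self y, ConcreteCategory.congr_hom G.δ_comp_σ_succ y⟩

lemma exists_filler (S : ∀ m, Subgroup (G _⦋m⦌))
    (hδ : ∀ (m : ℕ) (i : Fin (m + 2)) (g : G _⦋m + 1⦌), g ∈ S (m + 1) → G.δ i g ∈ S m)
    (hσ : ∀ (m : ℕ) (i : Fin (m + 1)) (g : G _⦋m⦌), g ∈ S m → G.σ i g ∈ S (m + 1))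
    {n : ℕ} (k : Fin (n + 2)) (x : ∀ j : Fin (n + 2), j ≠ k → G _⦋n⦌)
    (hxS : ∀ j hj, x j hj ∈ S n)
    (hx : ∀ (p : ℕ) (hp : n = p + 1) (a b : Fin (p + 2)), a ≤ b →
      ∀ (ha : Fin.cast (by omega) a.castSucc ≠ k) (hb : Fin.cast (by omega) b.succ ≠ k),
      G.δ a ((congrArg (fun m => (G _⦋m⦌ : Type u)) hp) ▸ x _ hb) =
        G.δ b ((congrArg (fun m => (G _⦋m⦌ : Type u)) hp) ▸ x _ ha)) :
    ∃ g ∈ S (n + 1), ∀ j hj, G.δ j g = x j hj := by
  cases n with
  | zero =>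
    have hk : ∀ j : Fin 2, j ≠ k → ∀ j' : Fin 2, j' ≠ k → j = j' := by
      intro j hj j' hj'; omega
    obtain ⟨j₀, hj₀⟩ : ∃ j₀ : Fin 2, j₀ ≠ k := exists_ne k
    refine ⟨G.σ 0 (x j₀ hj₀), hσ 0 0 _ (hxS _ _), fun j hj => ?_⟩
    obtain rfl := hk j hj j₀ hj₀
    obtain ⟨e0, e1⟩ := δ_σ_id G (0 : Fin 1) (x j hj)
    fin_cases j
    · exact e0
    · exact e1
  | succ p =>
    let d : ℕ → (G _⦋p + 2⦌ : Type u) →* (G _⦋p + 1⦌ : Type u) := fun i =>
      if h : i < p + 3 then (G.δ (⟨i, h⟩ : Fin (p + 3))).hom else 1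
    let d' : ℕ → (G _⦋p + 1⦌ : Type u) →* (G _⦋p⦌ : Type u) := fun i =>
      if h : i < p + 2 then (G.δ (⟨i, h⟩ : Fin (p + 2))).hom else 1
    let s : ℕ → (G _⦋p + 1⦌ : Type u) →* (G _⦋p + 2⦌ : Type u) := fun i =>
      if h : i < p + 2 then (G.σ (⟨i, h⟩ : Fin (p + 2))).hom else 1
    let x' : ℕ → (G _⦋p + 1⦌ : Type u) := fun i =>
      if h : i < p + 3 ∧ i ≠ (k : ℕ) then x ⟨i, h.1⟩ (fun e => h.2 (congrArg Fin.val e)) else 1
    have hd : ∀ (i : ℕ) (h : i < p + 3) g, d i g = G.δ (⟨i, h⟩ : Fin (p + 3)) g := fun i h g => by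
      simp only [d, dif_pos h]
    have hd' : ∀ (i : ℕ) (h : i < p + 2) g, d' i g = G.δ (⟨i, h⟩ : Fin (p + 2)) g := fun i h g => by
      simp only [d', dif_pos h]
    have hs : ∀ (i : ℕ) (h : i < p + 2) g, s i g = G.σ (⟨i, h⟩ : Fin (p + 2)) g := fun i h g => by
      simp only [s, dif_pos h]
    have hx' : ∀ (i : ℕ) (h : i < p + 3) (hi : i ≠ (k : ℕ)),
        x' i = x ⟨i, h⟩ (fun e => hi (congrArg Fin.val e)) := fun i h hi => by
      simp only [x', dif_pos (And.intro h hi)]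
    obtain ⟨g, hg, hgj⟩ := filler p k (Nat.le_of_lt_succ k.2) d d' s (S (p + 2)) (S (p + 1))
      (fun i y hi hy => by rw [hs i (by omega)]; exact hσ _ _ _ hy)
      (fun i g hi hg => by rw [hd i (by omega)]; exact hδ _ _ _ hg)
      (fun i y hi => by
        rw [hs i (by omega), hd i (by omega)]
        exact (δ_σ_id G (⟨i, by omega⟩ : Fin (p + 2)) y).1)
      (fun i y hi => by
        rw [hs i (by omega), hd (i + 1) (by omega)]
        exact (δ_σ_id G (⟨i, by omega⟩ : Fin (p + 2)) y).2)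
      (fun i j y hji hi hy => by
        obtain ⟨b, rfl⟩ : ∃ b, i = b + 1 := ⟨i - 1, by omega⟩
        rw [hs _ (by omega), hd j (by omega)]
        rw [hd' j (by omega)] at hy
        have := ConcreteCategory.congr_hom (G.δ_comp_σ_of_le (n := p) (i := ⟨j, by omega⟩)
          (j := ⟨b, by omega⟩) (Nat.le_of_lt_succ hji)) y
        refine this.trans ?_
        show G.σ _ (G.δ _ y) = 1
        rw [hy, map_one])
      (fun i j y hij hj hy => by
        obtain ⟨b, rfl⟩ : ∃ b, j = b + 1 := ⟨j - 1, by omega⟩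
        rw [hs i (by omega), hd _ (by omega)]
        rw [Nat.add_sub_cancel, hd' b (by omega)] at hy
        have := ConcreteCategory.congr_hom (G.δ_comp_σ_of_gt (n := p) (i := ⟨b, by omega⟩)
          (j := ⟨i, by omega⟩) (Nat.lt_of_succ_lt_succ hij)) y
        refine this.trans ?_
        show G.σ _ (G.δ _ y) = 1
        rw [hy, map_one])
      (fun a b g hab hb => by
        rw [hd (b + 1) (by omega), hd a (by omega), hd' a (by omega), hd' b (by omega)]
        exact ConcreteCategory.congr_hom (G.δ_comp_δ (n := p) (i := ⟨a, by omega⟩)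
          (j := ⟨b, by omega⟩) hab) g)
      x' (fun i hi hik => by rw [hx' i (by omega) hik]; exact hxS _ _)
      (fun a b hab hb hak hbk => by
        rw [hx' (b + 1) (by omega) hbk, hx' a (by omega) hak, hd' a (by omega), hd' b (by omega)]
        exact hx p rfl ⟨a, by omega⟩ ⟨b, by omega⟩ hab (fun e => hak (congrArg Fin.val e))
          (fun e => hbk (congrArg Fin.val e)))
    refine ⟨g, hg, fun j hj => ?_⟩
    have hjk : (j : ℕ) ≠ (k : ℕ) := fun e => hj (Fin.ext e)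
    exact ((hd j j.2 g).symm.trans (hgj j (Nat.le_of_lt_succ j.2) hjk)).trans (hx' j j.2 hjk)

lemma yonedaEquiv_δ_comp {X : SSet.{u}} {n : ℕ} (i : Fin (n + 2)) (φ : (Δ[n + 1] : SSet.{u}) ⟶ X) :
    SSet.yonedaEquiv (SSet.stdSimplex.δ i ≫ φ) = X.map (SimplexCategory.δ i).op (SSet.yonedaEquiv φ) := by
  refine (SSet.yonedaEquiv_comp _ _).trans ?_
  refine Eq.trans ?_ (NatTrans.naturality_apply φ (SimplexCategory.δ i).op
    (SSet.stdSimplex.objEquiv.symm (𝟙 ⦋n + 1⦌)))
  rfl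

lemma compat_eq {X : SSet.{u}} {p : ℕ} (k : Fin (p + 3))
    (f : ∀ (j : Fin (p + 3)) (_ : j ≠ k), (Δ[p + 1] : SSet.{u}) ⟶ X) (hf : SSet.horn.IsCompatible f)
    (a b : Fin (p + 2)) (hab : a ≤ b) (ha : a.castSucc ≠ k) (hb : b.succ ≠ k) :
    X.map (SimplexCategory.δ a).op (SSet.yonedaEquiv (f b.succ hb)) =
      X.map (SimplexCategory.δ b).op (SSet.yonedaEquiv (f a.castSucc ha)) := by
  rw [← yonedaEquiv_δ_comp, ← yonedaEquiv_δ_comp]
  have := hf.δ_pred_comp a.castSucc b.succ ha hb (Fin.castSucc_lt_succ_iff.2 hab)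
  rw [Fin.pred_succ, Fin.castPred_castSucc] at this
  rw [this]

lemma kanComplex : SSet.KanComplex (G ⋙ forget GrpCat.{u}) := by
  rw [SSet.KanComplex.iff]
  intro n k f hf
  obtain ⟨g, -, hg⟩ := exists_filler G (fun _ => ⊤) (fun _ _ _ _ => Subgroup.mem_top _)
    (fun _ _ _ _ => Subgroup.mem_top _) k (fun j hj => SSet.yonedaEquiv (f j hj))
    (fun _ _ => Subgroup.mem_top _) (by
      rintro p rfl a b hab ha hb
      exact compat_eq k f hf a b hab ha hb)
  refine ⟨SSet.yonedaEquiv.symm g, fun j hj => SSet.yonedaEquiv.injective ?_⟩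
  rw [yonedaEquiv_δ_comp, Equiv.apply_symm_apply]
  exact hg j hj

lemma fibration {P Q : SimplicialObject AddCommGrpCat.{u}} (f : P ⟶ Q)
    (hf : ∀ n : SimplexCategoryᵒᵖ, Function.Surjective (f.app n)) :
    SSet.modelCategoryQuillen.J.rlp (X := P ⋙ forget AddCommGrpCat.{u})
      (Y := Q ⋙ forget AddCommGrpCat.{u}) (Functor.whiskerRight f (forget AddCommGrpCat.{u})) := by
  intro A B i hi
  simp only [SSet.modelCategoryQuillen.J, MorphismProperty.iSup_iff] at hi
  obtain ⟨n, ⟨k⟩⟩ := hi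
  refine ⟨fun {σ t} sq => ?_⟩
  let F : AddCommGrpCat.{u} ⥤ GrpCat.{u} :=
    (forget₂ AddCommGrpCat.{u} AddGrpCat.{u}).comp AddGrpCat.toGrp
  let G : SimplicialObject GrpCat.{u} := Functor.comp P F
  let S : ∀ m, Subgroup (G _⦋m⦌) := fun m =>
    (show Subgroup (Multiplicative (P.obj (op ⦋m⦌))) from AddSubgroup.toSubgroup (f.app (op ⦋m⦌)).hom.ker)
  let face : ∀ j : Fin (n + 2), j ≠ k → ((Δ[n] : SSet.{u}) ⟶ P ⋙ forget AddCommGrpCat.{u}) :=
    fun j hj => SSet.horn.ι k j hj ≫ σ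
  have hface := SSet.horn.IsCompatible.of_hom σ
  obtain ⟨g0, hg0⟩ := hf (op ⦋n + 1⦌) (SSet.yonedaEquiv t)
  let e : ∀ j : Fin (n + 2), j ≠ k → (P.obj (op ⦋n⦌) : Type u) := fun j hj =>
    SSet.yonedaEquiv (face j hj)
  let x : ∀ j : Fin (n + 2), j ≠ k → (P.obj (op ⦋n⦌) : Type u) := fun j hj =>
    e j hj - P.map (SimplexCategory.δ j).op g0
  have hxS : ∀ j hj, f.app (op ⦋n⦌) (x j hj) = 0 := fun j hj => by
    show f.app (op ⦋n⦌) (e j hj - P.map (SimplexCategory.δ j).op g0) = 0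
    rw [map_sub, sub_eq_zero]
    have h1 : SSet.yonedaEquiv (face j hj ≫ Functor.whiskerRight f (forget AddCommGrpCat.{u})) =
        SSet.yonedaEquiv (SSet.stdSimplex.δ j ≫ t) := by
      rw [Category.assoc, sq.w, ← Category.assoc, SSet.horn.ι_ι]
    rw [yonedaEquiv_δ_comp, SSet.yonedaEquiv_comp] at h1
    refine h1.trans ?_
    rw [← hg0]
    exact (NatTrans.naturality_apply f (SimplexCategory.δ j).op g0).symm
  obtain ⟨g, hg, hgj⟩ := exists_filler G S
    (fun m i z hz => by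
      show f.app (op ⦋m⦌) (P.map (SimplexCategory.δ i).op z) = 0
      exact (NatTrans.naturality_apply f (SimplexCategory.δ i).op z).trans
        ((congrArg (Q.map (SimplexCategory.δ i).op) hz).trans (map_zero _)))
    (fun m i z hz => by
      show f.app (op ⦋m + 1⦌) (P.map (SimplexCategory.σ i).op z) = 0
      exact (NatTrans.naturality_apply f (SimplexCategory.σ i).op z).trans
        ((congrArg (Q.map (SimplexCategory.σ i).op) hz).trans (map_zero _)))
    k (fun j hj => Multiplicative.ofAdd (x j hj)) hxS (by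
      rintro p rfl a b hab ha hb
      show P.map (SimplexCategory.δ a).op (x b.succ hb) = P.map (SimplexCategory.δ b).op (x a.castSucc ha)
      show P.map (SimplexCategory.δ a).op (e b.succ hb - _) = P.map (SimplexCategory.δ b).op (e a.castSucc ha - _)
      rw [map_sub, map_sub]
      refine congrArg₂ _ (compat_eq k face hface a b hab ha hb) ?_
      exact ConcreteCategory.congr_hom (SimplicialObject.δ_comp_δ P hab) g0)
  let g' : (P.obj (op ⦋n + 1⦌) : Type u) := Multiplicative.toAdd g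
  let z : (P.obj (op ⦋n + 1⦌) : Type u) := g0 + g'
  refine ⟨⟨⟨SSet.yonedaEquiv.symm z, ?_, ?_⟩⟩⟩
  · refine SSet.horn.hom_ext' fun j hj => SSet.yonedaEquiv.injective ?_
    rw [← Category.assoc, SSet.horn.ι_ι, yonedaEquiv_δ_comp, Equiv.apply_symm_apply]
    show P.map (SimplexCategory.δ j).op (g0 + g') = _
    rw [map_add]
    have h3 : P.map (SimplexCategory.δ j).op g' = x j hj :=
      congrArg Multiplicative.toAdd (hgj j hj)
    rw [h3]
    exact add_sub_cancel _ _
  · apply SSet.yonedaEquiv.injective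
    rw [SSet.yonedaEquiv_comp, Equiv.apply_symm_apply]
    show f.app (op ⦋n + 1⦌) (g0 + g') = _
    have h4 : f.app (op ⦋n + 1⦌) g' = 0 := hg
    rw [map_add, h4, add_zero, hg0]

end Groth.Agent.SSet16
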