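import Groth.Agent.SSet16.AbHomotopy
import Groth.Agent.SSet16.Kan
import Mathlib.AlgebraicTopology.SimplicialSet.Boundary
import Mathlib.AlgebraicTopology.SimplicialSet.CategoryWithFibrations

/-!
Surjective quasi-isomorphisms of simplicial abelian groups are trivial Kan fibrations.
-/

set_option autoImplicit false
set_option linter.style.haveILetI false

namespace Groth.Agent.SSet16

open CategoryTheory AlgebraicTopology AlgebraicTopology.DoldKan Simplicial Opposite

universe u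

variable {P Q : SimplicialObject AddCommGrpCat.{u}} (f : P ⟶ Q)

lemma kernel_acyclic (hf : ∀ n : SimplexCategoryᵒᵖ, Function.Surjective (f.app n))
    (hq : QuasiIso (Alt.map f)) (n : ℕ) (e : P _⦋n⦌) (he : f.app (op ⦋n⦌) e = 0)
    (hd : (Alt.obj P).d n ((ComplexShape.down ℕ).next n) e = 0) :
    ∃ w : P _⦋n + 1⦌, f.app (op ⦋n + 1⦌) w = 0 ∧ (Alt.obj P).d (n + 1) n w = e := by
  have hb : ∀ k, Function.Bijective (HomologicalComplex.homologyMap (Alt.map f) k) := fun k =>
    (ConcreteCategory.isIso_iff_bijective _).1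
      ((quasiIsoAt_iff_isIso_homologyMap _ k).1 (hq.quasiIsoAt k))
  obtain ⟨z, hz⟩ := exists_cycle (K := Alt.obj P) n e hd
  have h0 : (Alt.obj P).homologyπ n z = 0 := by
    apply (hb n).1
    rw [π_map, map_zero]
    have : HomologicalComplex.cyclesMap (Alt.map f) n z = 0 := cycles_ext n (by
      rw [iCycles_map, map_zero, hz]; exact he)
    rw [this, map_zero]
  obtain ⟨w0, hw0⟩ := (π_eq_zero_iff n z).1 h0
  have hdw0 : (Alt.obj P).d (n + 1) n w0 = e :=
    ((ConcreteCategory.congr_hom ((Alt.obj P).toCycles_i (n + 1) n) w0).symm.trans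
      (congrArg ((Alt.obj P).iCycles n) hw0)).trans hz
  have hcyc : (Alt.obj Q).d (n + 1) ((ComplexShape.down ℕ).next (n + 1))
      ((Alt.map f).f (n + 1) w0) = 0 := by
    rw [show (ComplexShape.down ℕ).next (n + 1) = n from ComplexShape.next_eq' _ rfl]
    exact (ConcreteCategory.congr_hom ((Alt.map f).comm (n + 1) n) w0).trans
      ((congrArg ((Alt.map f).f n) hdw0).trans he)
  obtain ⟨zY, hzY⟩ := exists_cycle (n + 1) _ hcyc
  obtain ⟨c, hc⟩ := (hb (n + 1)).2 ((Alt.obj Q).homologyπ (n + 1) zY)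
  obtain ⟨zX, rfl⟩ := class_surjective (n + 1) c
  rw [π_map, eq_comm, ← sub_eq_zero, ← map_sub] at hc
  obtain ⟨v, hv⟩ := (π_eq_zero_iff (n + 1) _).1 hc
  obtain ⟨v', hv'⟩ := hf (op ⦋n + 2⦌) v
  have hv2 : (Alt.obj Q).d (n + 2) (n + 1) v =
      (Alt.map f).f (n + 1) w0 - (Alt.map f).f (n + 1) ((Alt.obj P).iCycles (n + 1) zX) := by
    refine ((ConcreteCategory.congr_hom ((Alt.obj Q).toCycles_i (n + 2) (n + 1)) v).symm.trans
      (congrArg ((Alt.obj Q).iCycles (n + 1)) hv)).trans ?_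
    rw [map_sub, hzY, iCycles_map]
  refine ⟨w0 - (Alt.obj P).iCycles (n + 1) zX - (Alt.obj P).d (n + 2) (n + 1) v', ?_, ?_⟩
  · show (Alt.map f).f (n + 1) (w0 - (Alt.obj P).iCycles (n + 1) zX - (Alt.obj P).d (n + 2) (n + 1) v') = 0
    rw [map_sub, map_sub, ← hv2, sub_eq_zero]
    exact (congrArg ((Alt.obj Q).d (n + 2) (n + 1)) hv'.symm).trans
      (ConcreteCategory.congr_hom ((Alt.map f).comm (n + 2) (n + 1)) v')
  · rw [map_sub, map_sub, hdw0]
    have h1 : (Alt.obj P).d (n + 1) n ((Alt.obj P).iCycles (n + 1) zX) = 0 :=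
      ConcreteCategory.congr_hom ((Alt.obj P).iCycles_d (n + 1) n) zX
    have h2 : (Alt.obj P).d (n + 1) n ((Alt.obj P).d (n + 2) (n + 1) v') = 0 :=
      ConcreteCategory.congr_hom ((Alt.obj P).d_comp_d (n + 2) (n + 1) n) v'
    rw [h1, h2, sub_zero, sub_zero]

lemma PInfty_fixed (P : SimplicialObject AddCommGrpCat.{u}) :
    ∀ (n : ℕ) (e : P _⦋n⦌),
      (∀ (m : ℕ) (h : n = m + 1) (i : Fin (m + 1)), P.δ i.succ (h ▸ e) = 0) →
      (PInfty (X := P)).f n e = e
  | 0, e, _ => rfl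
  | n + 1, e, he => by
    let φ : AddCommGrpCat.of (ULift.{u} ℤ) ⟶ P _⦋n + 1⦌ :=
      AddCommGrpCat.ofHom (AddMonoidHom.mk' (fun k : ULift.{u} ℤ => k.down • e)
        fun a b => add_smul a.down b.down e)
    have hφ : HigherFacesVanish (n + 1) φ := fun j _ => by
      apply AddCommGrpCat.hom_ext
      ext k
      show P.δ j.succ (k.down • e) = 0
      rw [map_zsmul, he n rfl j, smul_zero]
    have := ConcreteCategory.congr_hom hφ.comp_P_eq_self (ULift.up 1)
    have h1 : φ (ULift.up 1) = e := one_smul ℤ e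
    exact ((congrArg ((PInfty (X := P)).f (n + 1)) h1).symm.trans this).trans h1

lemma d_zero_of_faces (P : SimplicialObject AddCommGrpCat.{u}) :
    ∀ (n : ℕ) (e : P _⦋n⦌), (∀ (m : ℕ) (h : n = m + 1) (i : Fin (m + 2)), P.δ i (h ▸ e) = 0) →
      (Alt.obj P).d n ((ComplexShape.down ℕ).next n) e = 0
  | 0, e, _ => by rw [(Alt.obj P).shape _ _ (by simp)]; rfl
  | n + 1, e, he => by
    rw [show (ComplexShape.down ℕ).next (n + 1) = n from ComplexShape.next_eq' _ rfl, d_apply]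
    exact Finset.sum_eq_zero fun i _ => by rw [he n rfl i, smul_zero]

lemma boundary_ι_compat {p : ℕ} (a b : Fin (p + 2)) (hab : a ≤ b) :
    SSet.stdSimplex.δ.{u} a ≫ SSet.boundary.ι b.succ =
      SSet.stdSimplex.δ b ≫ SSet.boundary.ι a.castSucc := by
  rw [← cancel_mono (∂Δ[p + 2] : (Δ[p + 2] : SSet.{u}).Subcomplex).ι, Category.assoc, Category.assoc,
    SSet.boundary.ι_ι, SSet.boundary.ι_ι]
  exact SSet.stdSimplex.δ_comp_δ hab

lemma trivialFibration (hf : ∀ n : SimplexCategoryᵒᵖ, Function.Surjective (f.app n))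
    (hq : QuasiIso (Alt.map f)) :
    SSet.modelCategoryQuillen.I.rlp (X := P ⋙ forget AddCommGrpCat.{u})
      (Y := Q ⋙ forget AddCommGrpCat.{u}) (Functor.whiskerRight f (forget AddCommGrpCat.{u})) := by
  intro A B i hi
  obtain ⟨m⟩ := hi
  refine ⟨fun {σ t} sq => ?_⟩
  cases m with
  | zero =>
    obtain ⟨z, hz⟩ := hf (op ⦋0⦌) (SSet.yonedaEquiv t)
    refine ⟨⟨⟨SSet.yonedaEquiv.symm z, ?_, ?_⟩⟩⟩
    · ext Δ s
    · apply SSet.yonedaEquiv.injective
      rw [SSet.yonedaEquiv_comp, Equiv.apply_symm_apply]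
      exact hz
  | succ n =>
    -- the horn avoiding face `0`
    let ι' : (Λ[n + 1, (0 : Fin (n + 2))] : SSet.{u}) ⟶ (∂Δ[n + 1] : SSet.{u}) :=
      SSet.Subcomplex.homOfLE ((SSet.stdSimplex.le_boundary_iff _).2 (fun h => by
        have := SSet.objEquiv_symm_notMem_horn_of_isIso.{u} (0 : Fin (n + 2)) (𝟙 ⦋n + 1⦌)
        rw [h] at this
        exact this (Set.mem_univ _)))
    have sq' : CommSq (ι' ≫ σ) (Λ[n + 1, (0 : Fin (n + 2))] : (Δ[n + 1] : SSet.{u}).Subcomplex).ι
        (Functor.whiskerRight f (forget AddCommGrpCat.{u})) t :=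
      ⟨by rw [Category.assoc, sq.w, ← Category.assoc]; rfl⟩
    haveI : HasLiftingProperty (Λ[n + 1, (0 : Fin (n + 2))] : (Δ[n + 1] : SSet.{u}).Subcomplex).ι
        (Functor.whiskerRight f (forget AddCommGrpCat.{u})) :=
      fibration f hf _ (SSet.modelCategoryQuillen.horn_ι_mem_J (n + 1) 0)
    let x : Fin (n + 2) → (P.obj (op ⦋n⦌) : Type u) := fun j =>
      SSet.yonedaEquiv (SSet.boundary.ι j ≫ σ)
    let z : (P.obj (op ⦋n + 1⦌) : Type u) := SSet.yonedaEquiv sq'.lift
    let y : (Q.obj (op ⦋n + 1⦌) : Type u) := SSet.yonedaEquiv t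
    have hfz : f.app (op ⦋n + 1⦌) z = y :=
      (SSet.yonedaEquiv_comp _ _).symm.trans (congrArg SSet.yonedaEquiv sq'.fac_right)
    have hfx : ∀ j, f.app (op ⦋n⦌) (x j) = Q.δ j y := fun j => by
      refine ((SSet.yonedaEquiv_comp (SSet.boundary.ι j ≫ σ)
        (Functor.whiskerRight f (forget AddCommGrpCat.{u}))).symm.trans
          (congrArg SSet.yonedaEquiv ?_)).trans (yonedaEquiv_δ_comp j t)
      rw [Category.assoc, sq.w, ← Category.assoc, SSet.boundary.ι_ι]
    have hz : ∀ j, j ≠ 0 → P.δ j z = x j := fun j hj => by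
      refine (yonedaEquiv_δ_comp j sq'.lift).symm.trans (congrArg SSet.yonedaEquiv ?_)
      rw [← SSet.horn.ι_ι 0 j hj, Category.assoc, sq'.fac_left, ← Category.assoc]
      rfl
    let e : (P.obj (op ⦋n⦌) : Type u) := x 0 - P.δ 0 z
    have hfe : f.app (op ⦋n⦌) e = 0 := by
      show f.app (op ⦋n⦌) (x 0 - P.δ 0 z) = 0
      rw [map_sub, hfx, sub_eq_zero]
      exact (congrArg (Q.δ 0) hfz.symm).trans
        (NatTrans.naturality_apply f (SimplexCategory.δ (0 : Fin (n + 2))).op z).symm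
    have hfaces : ∀ (m : ℕ) (h : n = m + 1) (i : Fin (m + 2)), P.δ i (h ▸ e) = 0 := by
      rintro m rfl i
      show P.δ i (x 0 - P.δ 0 z) = 0
      have h1 : P.δ i (x 0) = P.δ 0 (x i.succ) := by
        refine ((yonedaEquiv_δ_comp i (SSet.boundary.ι 0 ≫ σ)).symm.trans (congrArg SSet.yonedaEquiv ?_)).trans
          (yonedaEquiv_δ_comp 0 (SSet.boundary.ι i.succ ≫ σ))
        rw [← Category.assoc, ← Category.assoc, boundary_ι_compat 0 i (Fin.zero_le i)]
        rfl
      have h2 : P.δ i (P.δ 0 z) = P.δ 0 (P.δ i.succ z) :=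
        (ConcreteCategory.congr_hom (SimplicialObject.δ_comp_δ P (Fin.zero_le i)) z).symm
      rw [map_sub, h1, h2, hz _ (Fin.succ_ne_zero i), sub_self]
    obtain ⟨w, hw, hdw⟩ := kernel_acyclic f hf hq n e hfe (d_zero_of_faces P n e hfaces)
    let w' : (P.obj (op ⦋n + 1⦌) : Type u) := (PInfty (X := P)).f (n + 1) w
    have hw0 : P.δ 0 w' = e := by
      refine (d_normal P n w' (δ_PInfty P n w)).symm.trans ?_
      refine (ConcreteCategory.congr_hom ((PInfty (X := P)).comm (n + 1) n) w).trans ?_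
      refine (congrArg ((PInfty (X := P)).f n) hdw).trans ?_
      exact PInfty_fixed P n e (fun m h i => hfaces m h i.succ)
    have hfw' : f.app (op ⦋n + 1⦌) w' = 0 :=
      (ConcreteCategory.congr_hom (PInfty_f_naturality (n + 1) f) w).symm.trans
        ((congrArg ((PInfty (X := Q)).f (n + 1)) hw).trans
          (map_zero ((PInfty (X := Q)).f (n + 1)).hom))
    refine ⟨⟨⟨SSet.yonedaEquiv.symm (z + w' : (P.obj (op ⦋n + 1⦌) : Type u)), ?_, ?_⟩⟩⟩
    · refine SSet.boundary.hom_ext fun j => SSet.yonedaEquiv.injective ?_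
      rw [← Category.assoc, SSet.boundary.ι_ι, yonedaEquiv_δ_comp, Equiv.apply_symm_apply]
      show P.δ j (z + w') = x j
      rw [map_add]
      rcases eq_or_ne j 0 with rfl | hj
      · rw [hw0]
        exact add_sub_cancel _ _
      · obtain ⟨i, rfl⟩ := Fin.exists_succ_eq.2 hj
        rw [δ_PInfty, hz _ hj, add_zero]
    · apply SSet.yonedaEquiv.injective
      rw [SSet.yonedaEquiv_comp, Equiv.apply_symm_apply]
      show f.app (op ⦋n + 1⦌) (z + w') = y
      rw [map_add, hfz, hfw', add_zero]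

end Groth.Agent.SSet16
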