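import Mathlib.AlgebraicTopology.SimplicialObject.Coskeletal
import Mathlib.AlgebraicTopology.SimplexCategory.Truncated
import Mathlib.CategoryTheory.Functor.KanExtension.Pointwise
import Mathlib.CategoryTheory.Limits.Shapes.FiniteLimits
import Mathlib.CategoryTheory.Limits.Constructions.Over.Connected
import Mathlib.CategoryTheory.Limits.Constructions.Over.Basic
import Mathlib.AlgebraicTopology.SimplicialSet.StdSimplex

/-!
Coskeletal simplicial objects: finite limit formula, monotonicity, behaviour under `Over.forget`.
-/

set_option autoImplicit false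
set_option linter.style.haveILetI false

namespace Groth.Agent.SSet16

open CategoryTheory CategoryTheory.Limits Simplicial SimplexCategory SimplexCategory.Truncated Opposite

universe v u

instance finite_trunc (m : ℕ) : Finite (SimplexCategory.Truncated m) :=
  Finite.of_injective (β := Fin (m + 1)) (fun a => ⟨a.obj.len, Nat.lt_succ_of_le a.property⟩)
    fun a b h => ObjectProperty.FullSubcategory.ext (SimplexCategory.ext (congrArg Fin.val h))

instance finite_hom (m : ℕ) (a b : SimplexCategory.Truncated m) : Finite (a ⟶ b) :=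
  Finite.of_injective (fun f => f.hom) fun _ _ h => ObjectProperty.hom_ext _ h

noncomputable instance finCategory_sa (m : ℕ) (Δ : SimplexCategoryᵒᵖ) :
    FinCategory (StructuredArrow Δ (SimplexCategory.Truncated.inclusion m).op) where
  fintypeObj := by
    haveI : Finite (StructuredArrow Δ (SimplexCategory.Truncated.inclusion m).op) :=
      Finite.of_injective (β := Σ a : SimplexCategory.Truncated m, (a.obj ⟶ Δ.unop))
        (fun j => ⟨j.right.unop, (show Δ ⟶ op j.right.unop.obj from j.hom).unop⟩) fun j k h => by
          obtain ⟨⟨⟨⟩⟩, a, f⟩ := j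
          obtain ⟨⟨⟨⟩⟩, b, g⟩ := k
          obtain ⟨h1, h2⟩ := Sigma.mk.inj_iff.1 h
          have h1' : a = b := congrArg op h1
          subst h1'
          have : f = g := Quiver.Hom.unop_inj (eq_of_heq h2)
          subst this
          rfl
    exact Fintype.ofFinite _
  fintypeHom j k := by
    haveI : Finite (j.right ⟶ k.right) :=
      Finite.of_injective (fun f => f.unop) fun _ _ h => Quiver.Hom.unop_inj h
    haveI : Finite (j ⟶ k) :=
      Finite.of_injective (fun f => f.right) fun _ _ h => StructuredArrow.ext _ _ h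
    exact Fintype.ofFinite _

variable {C : Type u} [Category.{v} C]

lemma hasPointwiseRan [HasFiniteLimits C] (m : ℕ) (U : (SimplexCategory.Truncated m)ᵒᵖ ⥤ C) :
    (SimplexCategory.Truncated.inclusion m).op.HasPointwiseRightKanExtension U :=
  fun _ => inferInstance

open SimplicialObject.Truncated in
lemma isCoskeletal_of_le [HasFiniteLimits C] (U : SimplicialObject C) {n m : ℕ} (h : n ≤ m)
    [U.IsCoskeletal n] : U.IsCoskeletal m := by
  haveI := hasPointwiseRan (C := C) n ((SimplexCategory.Truncated.inclusion n).op ⋙ U)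
  have hP := Functor.isPointwiseRightKanExtensionOfIsRightKanExtension
    U (𝟙 ((SimplexCategory.Truncated.inclusion n).op ⋙ U))
  let E := rightExtensionInclusion U m
  refine ⟨Functor.RightExtension.IsPointwiseRightKanExtension.isRightKanExtension (E := E) fun Δ => ?_⟩
  let up : StructuredArrow Δ (SimplexCategory.Truncated.inclusion n).op →
      StructuredArrow Δ (SimplexCategory.Truncated.inclusion m).op := fun i =>
    StructuredArrow.mk (Y := op (⟨i.right.unop.obj, i.right.unop.property.trans h⟩ : SimplexCategory.Truncated m)) i.hom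
  let res : Cone (StructuredArrow.proj Δ (SimplexCategory.Truncated.inclusion m).op ⋙
      (SimplexCategory.Truncated.inclusion m).op ⋙ U) →
      Cone (StructuredArrow.proj Δ (SimplexCategory.Truncated.inclusion n).op ⋙
        (SimplexCategory.Truncated.inclusion n).op ⋙ U) := fun s =>
    { pt := s.pt
      π :=
        { app := fun i => s.π.app (up i)
          naturality := fun i j f => by
            let gr : (up i).right ⟶ (up j).right :=
              (ObjectProperty.homMk f.right.unop.hom : (up j).right.unop ⟶ (up i).right.unop).op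
            let g : up i ⟶ up j := StructuredArrow.homMk gr (by exact StructuredArrow.w f)
            exact (Category.id_comp (s.π.app (up j))).trans (s.w g).symm } }
  have hfac : ∀ s i, (hP Δ).lift (res s) ≫ U.map i.hom = s.π.app (up i) := fun s i =>
    (congrArg ((hP Δ).lift (res s) ≫ ·) (Category.comp_id (U.map i.hom)).symm).trans
      ((hP Δ).fac (res s) i)
  exact
    { lift := fun s => (hP Δ).lift (res s)
      fac := fun s j => by
        show (hP Δ).lift (res s) ≫ U.map j.hom ≫ 𝟙 _ = _
        rw [Category.comp_id]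
        refine (hP (op j.right.unop.obj)).hom_ext fun i => ?_
        let ψ : op j.right.unop.obj ⟶ op i.right.unop.obj := i.hom
        let i' : StructuredArrow Δ (SimplexCategory.Truncated.inclusion n).op :=
          StructuredArrow.mk (Y := i.right) ((show Δ ⟶ op j.right.unop.obj from j.hom) ≫ ψ)
        let g : j ⟶ up i' := StructuredArrow.homMk (ObjectProperty.homMk ψ.unop).op (by exact rfl)
        have hw : s.π.app j ≫ U.map ψ = s.π.app (up i') := s.w g
        show ((hP Δ).lift (res s) ≫ U.map j.hom) ≫ U.map ψ ≫ 𝟙 _ = s.π.app j ≫ U.map ψ ≫ 𝟙 _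
        have h1 : ((hP Δ).lift (res s) ≫ U.map j.hom) ≫ U.map ψ = s.π.app j ≫ U.map ψ :=
          ((Category.assoc _ _ _).trans (congrArg (_ ≫ ·) (U.map_comp _ _).symm)).trans
            ((hfac s i').trans hw.symm)
        exact (congrArg (_ ≫ ·) (Category.comp_id (U.map ψ))).trans
          (h1.trans (congrArg (_ ≫ ·) (Category.comp_id (U.map ψ))).symm)
      uniq := fun s t ht => (hP Δ).uniq (res s) t fun i => ht (up i) }

lemma isConnected_sa (Δ : SimplexCategoryᵒᵖ) (k : ℕ) (hk : 1 ≤ k) :
    IsConnected (StructuredArrow Δ (SimplexCategory.Truncated.inclusion k).op) := by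
  let v : Fin (Δ.unop.len + 1) → StructuredArrow Δ (SimplexCategory.Truncated.inclusion k).op :=
    fun a => StructuredArrow.mk (Y := op (⟨⦋0⦌, Nat.zero_le k⟩ : SimplexCategory.Truncated k)) (⦋0⦌.const Δ.unop a).op
  have toV : ∀ j : StructuredArrow Δ (SimplexCategory.Truncated.inclusion k).op,
      ∀ b : Fin (j.right.unop.obj.len + 1),
      Nonempty (j ⟶ v ((show Δ ⟶ op j.right.unop.obj from j.hom).unop.toOrderHom b)) := fun j b =>
    ⟨StructuredArrow.homMk (Hom.tr (⦋0⦌.const j.right.unop.obj b) (Nat.zero_le k)
      j.right.unop.property).op (Quiver.Hom.unop_inj (by ext x; rfl))⟩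
  haveI : Nonempty (StructuredArrow Δ (SimplexCategory.Truncated.inclusion k).op) := ⟨v 0⟩
  haveI : IsPreconnected (StructuredArrow Δ (SimplexCategory.Truncated.inclusion k).op) := by
    apply zigzag_isPreconnected
    intro p q
    have hv : ∀ a, Zigzag (v 0) (v a) := fun a => by
      let e : StructuredArrow Δ (SimplexCategory.Truncated.inclusion k).op :=
        StructuredArrow.mk (Y := op (⟨⦋1⦌, hk⟩ : SimplexCategory.Truncated k)) (mkOfLe (0 : Fin (Δ.unop.len + 1)) a (Fin.zero_le a)).op
      obtain ⟨f⟩ := toV e 0
      obtain ⟨g⟩ := toV e 1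
      exact (Zigzag.of_inv f).trans (Zigzag.of_hom g)
    obtain ⟨f⟩ := toV p 0
    obtain ⟨g⟩ := toV q 0
    exact (((Zigzag.of_hom f).trans ((hv _).symm)).trans (hv _)).trans (Zigzag.of_inv g)
  exact { }

open SimplicialObject.Truncated in
lemma isCoskeletal_forget [HasFiniteLimits C] (X : C) (k : ℕ) (hk : 1 ≤ k)
    (V : SimplicialObject (Over X)) [V.IsCoskeletal k] :
    SimplicialObject.IsCoskeletal (V ⋙ Over.forget X) k := by
  haveI := hasPointwiseRan (C := Over X) k ((SimplexCategory.Truncated.inclusion k).op ⋙ V)
  have hP := Functor.isPointwiseRightKanExtensionOfIsRightKanExtension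
    V (𝟙 ((SimplexCategory.Truncated.inclusion k).op ⋙ V))
  refine ⟨Functor.RightExtension.IsPointwiseRightKanExtension.isRightKanExtension
    (E := rightExtensionInclusion (V ⋙ Over.forget X) k) fun Δ => ?_⟩
  haveI := isConnected_sa Δ k hk
  refine IsLimit.ofIsoLimit (isLimitOfPreserves (Over.forget X) (hP Δ))
    (Cone.ext (Iso.refl _) fun j => ?_)
  refine Eq.trans ?_ (Category.id_comp _).symm
  rfl

open SimplicialObject.Truncated in
lemma isCoskeletal_stdSimplex (n : ℕ) :
    SimplicialObject.IsCoskeletal (SSet.stdSimplex.{u}.obj ⦋n⦌) 1 := by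
  let X := SSet.stdSimplex.{u}.obj ⦋n⦌
  refine ⟨Functor.RightExtension.IsPointwiseRightKanExtension.isRightKanExtension
    (E := rightExtensionInclusion X 1) fun Δ => ?_⟩
  let v : Fin (Δ.unop.len + 1) → StructuredArrow Δ (SimplexCategory.Truncated.inclusion 1).op :=
    fun a => StructuredArrow.mk (Y := op (⟨⦋0⦌, Nat.zero_le 1⟩ : SimplexCategory.Truncated 1)) (⦋0⦌.const Δ.unop a).op
  have toV : ∀ (j : StructuredArrow Δ (SimplexCategory.Truncated.inclusion 1).op)
      (b : Fin (j.right.unop.obj.len + 1))
      (s : Cone (StructuredArrow.proj Δ (SimplexCategory.Truncated.inclusion 1).op ⋙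
        (SimplexCategory.Truncated.inclusion 1).op ⋙ X)) (x : s.pt),
      SSet.stdSimplex.objEquiv (s.π.app (v ((show Δ ⟶ op j.right.unop.obj from j.hom).unop.toOrderHom b)) x)
        = ⦋0⦌.const j.right.unop.obj b ≫ SSet.stdSimplex.objEquiv (s.π.app j x) := fun j b s x => by
    let α : j ⟶ v ((show Δ ⟶ op j.right.unop.obj from j.hom).unop.toOrderHom b) :=
      StructuredArrow.homMk (Hom.tr (⦋0⦌.const j.right.unop.obj b) (Nat.zero_le 1)
        j.right.unop.property).op (Quiver.Hom.unop_inj (by ext x; rfl))
    exact congrArg SSet.stdSimplex.objEquiv (ConcreteCategory.congr_hom (s.w α) x).symm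
  let F : ∀ (s : Cone (StructuredArrow.proj Δ (SimplexCategory.Truncated.inclusion 1).op ⋙
      (SimplexCategory.Truncated.inclusion 1).op ⋙ X)), s.pt → (Δ.unop ⟶ ⦋n⦌) := fun s x =>
    SimplexCategory.Hom.mk
      ⟨fun a => (SSet.stdSimplex.objEquiv (s.π.app (v a) x)).toOrderHom 0, fun a b hab => by
        let e : StructuredArrow Δ (SimplexCategory.Truncated.inclusion 1).op :=
          StructuredArrow.mk (Y := op (⟨⦋1⦌, le_rfl⟩ : SimplexCategory.Truncated 1)) (mkOfLe a b hab).op
        have ha := congrArg (fun t => t.toOrderHom 0) (toV e 0 s x)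
        have hb := congrArg (fun t => t.toOrderHom 0) (toV e 1 s x)
        exact (le_of_eq ha).trans (le_trans
          ((SSet.stdSimplex.objEquiv (s.π.app e x)).toOrderHom.monotone (show (0 : Fin 2) ≤ 1 by decide))
          (le_of_eq hb.symm))⟩
  exact
    { lift := fun s => ↾fun x => SSet.stdSimplex.objEquiv.symm (F s x)
      fac := fun s j => by
        ext x
        apply SSet.stdSimplex.objEquiv.injective
        apply SimplexCategory.Hom.ext
        refine OrderHom.ext _ _ (funext fun b => ?_)
        exact congrArg (fun t => t.toOrderHom 0) (toV j b s x)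
      uniq := fun s t ht => by
        ext x
        apply SSet.stdSimplex.objEquiv.injective
        apply SimplexCategory.Hom.ext
        refine OrderHom.ext _ _ (funext fun a => ?_)
        exact congrArg (fun y => (SSet.stdSimplex.objEquiv y).toOrderHom 0)
          (ConcreteCategory.congr_hom (ht (v a)) x) }

end Groth.Agent.SSet16
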