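import Mathlib.AlgebraicTopology.SimplicialSet.Skeleton
import Mathlib.AlgebraicTopology.SimplicialSet.Dimension
import Mathlib.AlgebraicTopology.SimplicialSet.Subcomplex
import Mathlib.AlgebraicTopology.SimplicialSet.Basic

/-!
The simplicial set freely generated by a truncated one; the counit of the skeleton adjunction.
-/

set_option autoImplicit false
set_option linter.style.haveILetI false

namespace Groth.Agent.SSet16

open CategoryTheory Simplicial Opposite SSet

universe u

lemma skeleton_sk_eq_top (m : ℕ) (U : SSet.Truncated.{u} m) :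
    ((SSet.Truncated.sk m).obj U).skeleton (m + 1) = ⊤ := by
  let X := (SSet.Truncated.sk m).obj U
  let A := X.skeleton (m + 1)
  haveI : IsIso ((SSet.truncation m).map A.ι) := by
    haveI : ∀ Δ, IsIso (((SSet.truncation m).map A.ι).app Δ) := fun Δ => by
      obtain ⟨⟨⟨d⟩, hd⟩⟩ := Δ
      rw [isIso_iff_bijective]
      exact ⟨fun a b h => Subtype.ext h, fun x => ⟨⟨x, X.mem_skeleton x (Nat.lt_succ_of_le hd)⟩, rfl⟩⟩
    exact NatIso.isIso_of_isIso_app _
  let adj := SSet.skAdj.{u} m
  let s : X ⟶ (A : SSet) := (adj.homEquiv _ _).symm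
    (adj.unit.app U ≫ inv ((SSet.truncation m).map A.ι))
  have hs : s ≫ A.ι = 𝟙 X := by
    apply (adj.homEquiv _ _).injective
    rw [adj.homEquiv_naturality_right, Equiv.apply_symm_apply, Category.assoc, IsIso.inv_hom_id,
      Category.comp_id, adj.homEquiv_id]
  refine Subfunctor.ext (funext fun Δ => Set.eq_univ_of_forall fun x => ?_)
  have hx : ((s.app Δ x).1 : X.obj Δ) = x := by
    exact ConcreteCategory.congr_hom (NatTrans.congr_app hs Δ) x
  rw [← hx]
  exact (s.app Δ x).2

lemma hasDimensionLT_sk (m : ℕ) (U : SSet.Truncated.{u} m) :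
    ((SSet.Truncated.sk m).obj U).HasDimensionLT (m + 1) := by
  refine ⟨fun n hn => Set.eq_univ_of_forall fun x => ?_⟩
  by_contra hx
  have := ((SSet.Truncated.sk m).obj U).mem_skeleton_obj_iff_of_nonDegenerate ⟨x, hx⟩ (m + 1)
  rw [skeleton_sk_eq_top] at this
  have := this.1 (Set.mem_univ _)
  omega

lemma counit_bijective (U : SSet.{u}) (n d : ℕ) (hd : d ≤ n) :
    Function.Bijective (((SSet.skAdj n).counit.app U).app (op ⦋d⦌)) := by
  let adj := SSet.skAdj.{u} n
  haveI : IsIso ((SSet.truncation n).map (adj.counit.app U)) :=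
    IsIso.of_isIso_fac_left (adj.right_triangle_components U)
  exact (isIso_iff_bijective (((SSet.truncation n).map (adj.counit.app U)).app (op ⟨⦋d⦌, hd⟩))).1
    inferInstance

lemma range_counit (U : SSet.{u}) (n : ℕ) :
    SSet.Subcomplex.range ((SSet.skAdj n).counit.app U) = U.skeleton (n + 1) := by
  let X := (SSet.Truncated.sk n).obj ((SSet.truncation n).obj U)
  let c : X ⟶ U := (SSet.skAdj n).counit.app U
  haveI : X.HasDimensionLT (n + 1) := hasDimensionLT_sk n _
  apply le_antisymm
  · rintro ⟨⟨d⟩⟩ _ ⟨x, rfl⟩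
    show c.app (op ⦋d⦌) x ∈ _
    obtain ⟨e, f, _, y, rfl⟩ := X.exists_nonDegenerate x
    have he : e < n + 1 := SSet.dim_lt_of_nonDegenerate _ y (n + 1)
    have : U.map f.op (c.app _ y.1) = c.app _ (X.map f.op y.1) :=
      (NatTrans.naturality_apply c f.op y.1).symm
    rw [← this]
    exact (U.skeleton (n + 1)).map f.op (U.mem_skeleton _ he)
  · rw [SSet.Subcomplex.le_iff_contains_nonDegenerate]
    intro d x hx
    rw [U.mem_skeleton_obj_iff_of_nonDegenerate] at hx
    exact (counit_bijective U n d (Nat.le_of_lt_succ hx)).2 x.1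

lemma mono_counit (U : SSet.{u}) (n : ℕ) : Mono ((SSet.skAdj n).counit.app U) := by
  let X := (SSet.Truncated.sk n).obj ((SSet.truncation n).obj U)
  let c : X ⟶ U := (SSet.skAdj n).counit.app U
  haveI : X.HasDimensionLT (n + 1) := hasDimensionLT_sk n _
  have hnd : ∀ {d : ℕ} (y : X.nonDegenerate d), c.app _ y.1 ∈ U.nonDegenerate d := by
    intro d y hdeg
    obtain ⟨m, hm, f, hf, z, hz⟩ := (U.mem_degenerate_iff _).1 hdeg
    have hd : d ≤ n := SSet.dim_le_of_nonDegenerate _ y n
    obtain ⟨z', rfl⟩ := (counit_bijective U n m (by omega)).2 z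
    have : X.map f.op z' = y.1 :=
      (counit_bijective U n d hd).1 ((NatTrans.naturality_apply c f.op z').trans hz)
    exact y.2 ⟨m, hm, f, z', this⟩
  haveI : ∀ Δ, Mono (c.app Δ) := by
    rintro ⟨⟨d⟩⟩
    rw [CategoryTheory.mono_iff_injective]
    intro x x' h
    obtain ⟨e, f, _, y, rfl⟩ := X.exists_nonDegenerate x
    obtain ⟨e', f', _, y', rfl⟩ := X.exists_nonDegenerate x'
    have h1 : c.app _ (X.map f.op y.1) = U.map f.op (⟨_, hnd y⟩ : U.nonDegenerate e).1 :=
      NatTrans.naturality_apply c f.op y.1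
    have h2 : c.app _ (X.map f.op y.1) = U.map f'.op (⟨_, hnd y'⟩ : U.nonDegenerate e').1 :=
      h.trans (NatTrans.naturality_apply c f'.op y'.1)
    obtain rfl := U.unique_nonDegenerate_dim _ f _ h1 f' _ h2
    obtain rfl := U.unique_nonDegenerate_map _ f _ h1 f' _ h2
    have h3 := congrArg Subtype.val (U.unique_nonDegenerate_simplex _ f _ h1 f _ h2)
    have hy : y.1 = y'.1 := (counit_bijective U n e (SSet.dim_le_of_nonDegenerate _ y n)).1 h3
    rw [hy]
  exact NatTrans.mono_of_mono_app c

end Groth.Agent.SSet16
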