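import Groth.Agent.S6810
import Mathlib.AlgebraicTopology.DoldKan.Equivalence
import Mathlib.AlgebraicTopology.DoldKan.Degeneracies
import Mathlib.CategoryTheory.Functor.KanExtension.Adjunction
import Mathlib.AlgebraicTopology.SimplicialObject.Basic
import Mathlib.CategoryTheory.Subobject.Lattice
import Mathlib.CategoryTheory.Abelian.Subobject

/-!
The skeleton of a simplicial object in an abelian category.
-/

set_option autoImplicit false
set_option linter.style.haveILetI false

namespace Groth.Agent.SSet16

open CategoryTheory CategoryTheory.Limits Opposite AlgebraicTopology AlgebraicTopology.DoldKan Simplicial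

universe v u

variable {A : Type u} [Category.{v} A] [Abelian A]

lemma not_mono_of_lt {m i : ℕ} (h : i < m) (θ : ⦋m⦌ ⟶ ⦋i⦌) : ¬ Mono θ := fun _ =>
  absurd (SimplexCategory.len_le_of_mono θ) (not_le.2 h)

lemma arrow_comp_PInfty (X : SimplicialObject A) (n : ℕ) :
    (NormalizedMooreComplex.objX X n).arrow ≫ (PInfty (X := X)).f n =
      (NormalizedMooreComplex.objX X n).arrow :=
  HomologicalComplex.congr_hom (inclusionOfMooreComplexMap_comp_PInfty X) n

variable (m : ℕ)
  [∀ F : (SimplexCategory.Truncated m)ᵒᵖ ⥤ A, (SimplexCategory.Truncated.inclusion m).op.HasLeftKanExtension F]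

lemma sk_hom_ext (U : SimplicialObject.Truncated A m) (n : ℕ) {Z : A}
    {a b : ((SimplicialObject.Truncated.sk m).obj U).obj (op ⦋n⦌) ⟶ Z}
    (h : ∀ (i : SimplexCategory.Truncated m) (θ : ⦋n⦌ ⟶ i.obj),
      ((SimplicialObject.skAdj m).unit.app U).app (op i) ≫
          ((SimplicialObject.Truncated.sk m).obj U).map θ.op ≫ a =
        ((SimplicialObject.skAdj m).unit.app U).app (op i) ≫
          ((SimplicialObject.Truncated.sk m).obj U).map θ.op ≫ b) : a = b := by
  let L := (SimplexCategory.Truncated.inclusion m).op
  haveI : L.HasPointwiseLeftKanExtension U := Groth.Agent.S6810.result m U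
  haveI : Functor.IsLeftKanExtension ((SimplicialObject.Truncated.sk m).obj U)
      ((SimplicialObject.skAdj m).unit.app U) := by
    show Functor.IsLeftKanExtension _ (((SimplexCategory.Truncated.inclusion m).op.lanAdjunction A).unit.app U)
    rw [Functor.lanAdjunction_unit]
    exact inferInstanceAs (Functor.IsLeftKanExtension ((SimplexCategory.Truncated.inclusion m).op.lan.obj U)
      ((SimplexCategory.Truncated.inclusion m).op.lanUnit.app U))
  refine (Functor.isPointwiseLeftKanExtensionOfIsLeftKanExtension
    ((SimplicialObject.Truncated.sk m).obj U) ((SimplicialObject.skAdj m).unit.app U)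
    (op ⦋n⦌)).hom_ext fun j => ?_
  exact (Category.assoc _ _ _).trans
    ((h j.left.unop (show op j.left.unop.obj ⟶ op ⦋n⦌ from j.hom).unop).trans (Category.assoc _ _ _).symm)

lemma sk_objX_eq_bot (U : SimplicialObject.Truncated A m) (n : ℕ) (hn : m < n) :
    NormalizedMooreComplex.objX ((SimplicialObject.Truncated.sk m).obj U) n = ⊥ := by
  have h0 : (PInfty (X := (SimplicialObject.Truncated.sk m).obj U)).f n = 0 :=
    sk_hom_ext m U n fun i θ => by
      refine congrArg (_ ≫ ·) ((degeneracy_comp_PInfty _ n θ
        (not_mono_of_lt (i := i.obj.len) (lt_of_le_of_lt i.property hn) θ)).trans comp_zero.symm)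
  have := arrow_comp_PInfty ((SimplicialObject.Truncated.sk m).obj U) n
  rw [h0, comp_zero] at this
  rw [← Subobject.mk_arrow (NormalizedMooreComplex.objX ((SimplicialObject.Truncated.sk m).obj U) n),
    Subobject.mk_eq_bot_iff_zero]
  exact this.symm

lemma unit_map_counit (U : SimplicialObject A) (n : ℕ) (i : SimplexCategory.Truncated m)
    (θ : ⦋n⦌ ⟶ i.obj) :
    ((SimplicialObject.skAdj m).unit.app ((SimplicialObject.truncation m).obj U)).app (op i) ≫
      ((SimplicialObject.Truncated.sk m).obj ((SimplicialObject.truncation m).obj U)).map θ.op ≫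
        ((SimplicialObject.skAdj m).counit.app U).app (op ⦋n⦌) = U.map θ.op := by
  have hnat := ((SimplicialObject.skAdj m).counit.app U).naturality θ.op
  have htri := NatTrans.congr_app ((SimplicialObject.skAdj m).right_triangle_components U) (op i)
  exact (congrArg (_ ≫ ·) hnat).trans (((Category.assoc _ _ _).symm.trans
    (congrArg (· ≫ U.map θ.op) htri)).trans (Category.id_comp _))

lemma image_counit (U : SimplicialObject A) (n : ℕ) (S : Subobject (U.obj (op ⦋n⦌)))
    (hS : IsLUB (Set.range (fun φ : Σ i : Fin (m + 1), (⦋n⦌ ⟶ ⦋(i : ℕ)⦌) =>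
      imageSubobject (U.map φ.2.op))) S) :
    imageSubobject (((SimplicialObject.skAdj m).counit.app U).app (op ⦋n⦌)) = S := by
  apply le_antisymm
  · refine imageSubobject_le _ (Abelian.monoLift S.arrow _ ?_) (Abelian.monoLift_comp _ _ _)
    refine sk_hom_ext m _ n fun i θ => ?_
    have hle : imageSubobject (U.map θ.op) ≤ S :=
      hS.1 ⟨⟨⟨i.obj.len, Nat.lt_succ_of_le i.property⟩, θ⟩, rfl⟩
    have hz : U.map θ.op ≫ cokernel.π S.arrow = 0 := by
      rw [← imageSubobject_arrow_comp (U.map θ.op), ← Subobject.ofLE_arrow hle]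
      simp only [Category.assoc, cokernel.condition, comp_zero]
    rw [comp_zero, comp_zero]
    refine Eq.trans ?_ hz
    refine Eq.trans ?_ (congrArg (· ≫ cokernel.π S.arrow) (unit_map_counit m U n i θ))
    exact (congrArg (_ ≫ ·) (Category.assoc _ _ _).symm).trans (Category.assoc _ _ _).symm
  · refine hS.2 ?_
    rintro _ ⟨⟨⟨i, hi⟩, θ⟩, rfl⟩
    dsimp only
    rw [← unit_map_counit m U n ⟨⦋i⦌, Nat.le_of_lt_succ hi⟩ θ, ← Category.assoc]
    exact imageSubobject_comp_le _ _

lemma mono_counit_ab (U : SimplicialObject A) (n : ℕ) :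
    Mono (((SimplicialObject.skAdj m).counit.app U).app (op ⦋n⦌)) := by
  let c := (SimplicialObject.skAdj m).counit.app U
  haveI : ∀ k, Mono (((normalizedMooreComplex A).map c).f k) := fun k => by
    rcases Nat.lt_or_ge m k with hk | hk
    · have h0 : IsZero ((NormalizedMooreComplex.objX
          ((SimplicialObject.Truncated.sk m).obj ((SimplicialObject.truncation m).obj U)) k : A)) := by
        rw [sk_objX_eq_bot m _ k hk]
        exact IsZero.of_iso (isZero_zero A) Subobject.botCoeIsoZero
      exact ⟨fun a b _ => h0.eq_of_tgt a b⟩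
    · haveI : IsIso ((SimplicialObject.skAdj (C := A) m).unit) := inferInstance
      haveI : IsIso ((SimplicialObject.truncation m).map c) :=
        IsIso.of_isIso_fac_left ((SimplicialObject.skAdj m).right_triangle_components U)
      haveI : IsIso (c.app (op ⦋k⦌)) :=
        inferInstanceAs (IsIso (((SimplicialObject.truncation m).map c).app (op ⟨⦋k⦌, hk⟩)))
      have hh : ((normalizedMooreComplex A).map c).f k ≫ (NormalizedMooreComplex.objX U k).arrow =
          (NormalizedMooreComplex.objX _ k).arrow ≫ c.app (op ⦋k⦌) :=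
        HomologicalComplex.congr_hom ((inclusionOfMooreComplex A).naturality c) k
      haveI : Mono (((normalizedMooreComplex A).map c).f k ≫ (NormalizedMooreComplex.objX U k).arrow) := by
        rw [hh]; exact @mono_comp _ _ _ _ _ _ (Subobject.arrow_mono _) _ inferInstance
      exact mono_of_mono ((normalizedMooreComplex A).map c |>.f k) (NormalizedMooreComplex.objX U k).arrow
  haveI : Mono ((normalizedMooreComplex A).map c) := HomologicalComplex.mono_of_mono_f _ (fun k => inferInstance)
  haveI : Mono (Abelian.DoldKan.equivalence.functor.map c) :=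
    inferInstanceAs (Mono ((normalizedMooreComplex A).map c))
  haveI : Mono c := Abelian.DoldKan.equivalence.functor.mono_of_mono_map inferInstance
  exact inferInstanceAs (Mono (c.app (op ⦋n⦌)))

end Groth.Agent.SSet16
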