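import Mathlib.AlgebraicTopology.DoldKan.HomotopyEquivalence
import Mathlib.AlgebraicTopology.DoldKan.Normalized
import Mathlib.AlgebraicTopology.SimplicialObject.ChainHomotopy
import Mathlib.AlgebraicTopology.SimplicialSet.Homotopy
import Mathlib.Algebra.Category.Grp.Adjunctions
import Mathlib.Algebra.Category.Grp.Abelian
import Mathlib.Algebra.Homology.ShortComplex.Ab
import Mathlib.Algebra.Homology.QuasiIso

/-!
A homomorphism of simplicial abelian groups which is a homotopy equivalence of simplicial sets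
is a quasi-isomorphism.
-/

set_option autoImplicit false
set_option linter.style.haveILetI false

namespace Groth.Agent.SSet16

open CategoryTheory AlgebraicTopology AlgebraicTopology.DoldKan Simplicial Opposite

universe u

noncomputable section

/-- the functor to simplicial free abelian groups -/
abbrev Fr : SimplicialObject (Type u) ⥤ SimplicialObject AddCommGrpCat.{u} :=
  (SimplicialObject.whiskering _ _).obj AddCommGrpCat.free

/-- the underlying simplicial set -/
abbrev Un : SimplicialObject AddCommGrpCat.{u} ⥤ SimplicialObject (Type u) :=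
  (SimplicialObject.whiskering _ _).obj (forget AddCommGrpCat.{u})

/-- summing formal combinations -/
def eps (X : SimplicialObject AddCommGrpCat.{u}) : Fr.obj (Un.obj X) ⟶ X where
  app Δ := AddCommGrpCat.ofHom
    (FreeAbelianGroup.lift (β := (X.obj Δ : Type u)) fun x => x)
  naturality Δ Δ' θ := by
    apply AddCommGrpCat.hom_ext
    apply FreeAbelianGroup.lift_ext
    intro x
    exact (FreeAbelianGroup.lift_apply_of _ _).trans
      (congrArg (X.map θ) (FreeAbelianGroup.lift_apply_of (β := (X.obj Δ : Type u)) (fun y => y) x)).symm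

lemma eps_naturality {X Y : SimplicialObject AddCommGrpCat.{u}} (f : X ⟶ Y) :
    Fr.map (Un.map f) ≫ eps Y = eps X ≫ f := by
  refine NatTrans.ext (funext fun Δ => ?_)
  apply AddCommGrpCat.hom_ext
  apply FreeAbelianGroup.lift_ext
  intro x
  exact (FreeAbelianGroup.lift_apply_of _ _).trans
    (congrArg (f.app Δ) (FreeAbelianGroup.lift_apply_of (β := (X.obj Δ : Type u)) (fun y => y) x)).symm

/-- the alternating face complex -/
abbrev Alt := alternatingFaceMapComplex AddCommGrpCat.{u}

variable (X : SimplicialObject AddCommGrpCat.{u})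

/-- `[x]` -/
def gen {n : ℕ} (x : X _⦋n⦌) : (Fr.obj (Un.obj X)) _⦋n⦌ :=
  (FreeAbelianGroup.of x : FreeAbelianGroup (X _⦋n⦌ : Type u))

/-- `[x] - [0]` -/
def bracket {n : ℕ} (x : X _⦋n⦌) : (Fr.obj (Un.obj X)) _⦋n⦌ :=
  gen X x - gen X 0

lemma bracket_zero {n : ℕ} : bracket X (0 : X _⦋n⦌) = 0 := sub_self _

lemma eps_gen {n : ℕ} (x : X _⦋n⦌) : (eps X).app (op ⦋n⦌) (gen X x) = x :=
  FreeAbelianGroup.lift_apply_of (fun y => y) x

lemma map_gen {Y : SimplicialObject AddCommGrpCat.{u}} (f : X ⟶ Y) {n : ℕ} (x : X _⦋n⦌) :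
    (Fr.map (Un.map f)).app (op ⦋n⦌) (gen X x) = gen Y (f.app (op ⦋n⦌) x) :=
  FreeAbelianGroup.map_of_apply x

lemma δ_gen {n : ℕ} (i : Fin (n + 2)) (x : X _⦋n + 1⦌) :
    (Fr.obj (Un.obj X)).δ i (gen X x) = gen X (X.δ i x) :=
  FreeAbelianGroup.map_of_apply x

lemma eps_bracket {n : ℕ} (x : X _⦋n⦌) : (eps X).app (op ⦋n⦌) (bracket X x) = x := by
  rw [bracket, map_sub, eps_gen, eps_gen, sub_zero]

lemma map_bracket {Y : SimplicialObject AddCommGrpCat.{u}} (f : X ⟶ Y) {n : ℕ} (x : X _⦋n⦌) :
    (Fr.map (Un.map f)).app (op ⦋n⦌) (bracket X x) = bracket Y (f.app (op ⦋n⦌) x) := by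
  rw [bracket, map_sub, map_gen, map_gen, map_zero, bracket]

lemma δ_bracket {n : ℕ} (i : Fin (n + 2)) (x : X _⦋n + 1⦌) :
    (Fr.obj (Un.obj X)).δ i (bracket X x) = bracket X (X.δ i x) := by
  rw [bracket, map_sub, δ_gen, δ_gen, map_zero, bracket]

lemma d_apply (n : ℕ) (x : X _⦋n + 1⦌) :
    (Alt.obj X).d (n + 1) n x = ∑ i : Fin (n + 2), (-1 : ℤ) ^ (i : ℕ) • X.δ i x := by
  rw [show (Alt.obj X).d (n + 1) n = AlternatingFaceMapComplex.objD X n from
    alternatingFaceMapComplex_obj_d X n, AlternatingFaceMapComplex.objD]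
  exact map_sum (AddMonoidHom.mk' (fun φ : X _⦋n + 1⦌ ⟶ X _⦋n⦌ => φ x) (fun _ _ => rfl))
    (fun i : Fin (n + 2) => (-1 : ℤ) ^ (i : ℕ) • X.δ i) Finset.univ

lemma d_bracket (n : ℕ) (w : X _⦋n + 1⦌) (hw : ∀ i : Fin (n + 1), X.δ i.succ w = 0) :
    (Alt.obj (Fr.obj (Un.obj X))).d (n + 1) n (bracket X w) = bracket X (X.δ 0 w) := by
  rw [d_apply, Finset.sum_eq_single (0 : Fin (n + 2))]
  · rw [Fin.val_zero, pow_zero, one_smul, δ_bracket]
  · intro i _ hi
    obtain ⟨j, rfl⟩ := Fin.exists_succ_eq.2 hi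
    rw [δ_bracket, hw]
    rw [bracket_zero, smul_zero]
  · exact fun h => absurd (Finset.mem_univ _) h

lemma δ_PInfty (n : ℕ) (w : X _⦋n + 1⦌) (i : Fin (n + 1)) :
    X.δ i.succ ((PInfty (X := X)).f (n + 1) w) = 0 := by
  have h := (HigherFacesVanish.of_P (X := X) (n + 1) n) i le_add_self
  exact ConcreteCategory.congr_hom h w

lemma d_normal (n : ℕ) (w : X _⦋n + 1⦌) (hw : ∀ i : Fin (n + 1), X.δ i.succ w = 0) :
    (Alt.obj X).d (n + 1) n w = X.δ 0 w := by
  rw [d_apply, Finset.sum_eq_single (0 : Fin (n + 2))]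
  · rw [Fin.val_zero, pow_zero, one_smul]
  · intro i _ hi
    obtain ⟨j, rfl⟩ := Fin.exists_succ_eq.2 hi
    rw [hw, smul_zero]
  · exact fun h => absurd (Finset.mem_univ _) h

lemma bracket_cycle (n : ℕ) (z : X _⦋n⦌)
    (hz : (Alt.obj X).d n ((ComplexShape.down ℕ).next n) z = 0) :
    (Alt.obj (Fr.obj (Un.obj X))).d n ((ComplexShape.down ℕ).next n)
      (bracket X ((PInfty (X := X)).f n z)) = 0 := by
  cases n with
  | zero =>
    rw [(Alt.obj (Fr.obj (Un.obj X))).shape _ _ (by simp)]
    rfl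
  | succ m =>
    have hn : (ComplexShape.down ℕ).next (m + 1) = m := ComplexShape.next_eq' _ rfl
    rw [hn] at hz ⊢
    let w := (PInfty (X := X)).f (m + 1) z
    have hw : ∀ i : Fin (m + 1), X.δ i.succ w = 0 := δ_PInfty X m z
    refine (d_bracket X m w hw).trans ?_
    have h1 : (Alt.obj X).d (m + 1) m w = 0 :=
      (ConcreteCategory.congr_hom ((PInfty (X := X)).comm (m + 1) m) z).trans
        ((congrArg ((PInfty (X := X)).f m) hz).trans (map_zero ((PInfty (X := X)).f m).hom))
    rw [← d_normal X m w hw]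
    exact (congrArg (bracket X) h1).trans (bracket_zero X)

variable {K L : ChainComplex AddCommGrpCat.{u} ℕ}

lemma class_surjective (n : ℕ) (c : (K.homology n : Type u)) :
    ∃ z : (K.cycles n : Type u), K.homologyπ n z = c :=
  (AddCommGrpCat.epi_iff_surjective (K.homologyπ n)).1 inferInstance c

lemma cycles_ext (n : ℕ) {a b : (K.cycles n : Type u)} (h : K.iCycles n a = K.iCycles n b) : a = b :=
  (AddCommGrpCat.mono_iff_injective (K.iCycles n)).1 inferInstance h

lemma exists_cycle (n : ℕ) (x : (K.X n : Type u)) (hx : K.d n ((ComplexShape.down ℕ).next n) x = 0) :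
    ∃ z : (K.cycles n : Type u), K.iCycles n z = x :=
  (ShortComplex.ab_exact_iff _).1
    (ShortComplex.exact_of_f_is_kernel
      (ShortComplex.mk (K.iCycles n) (K.d n ((ComplexShape.down ℕ).next n)) (K.iCycles_d n _))
      (K.cyclesIsKernel n _ rfl)) x hx

lemma π_eq_zero_iff (n : ℕ) (z : (K.cycles n : Type u)) :
    K.homologyπ n z = 0 ↔ ∃ w : (K.X (n + 1) : Type u), K.toCycles (n + 1) n w = z := by
  have hex := (ShortComplex.ab_exact_iff _).1
    (ShortComplex.exact_of_g_is_cokernel
      (ShortComplex.mk (K.toCycles (n + 1) n) (K.homologyπ n) (K.toCycles_comp_homologyπ _ _))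
      (K.homologyIsCokernel (n + 1) n (ComplexShape.prev_eq' _ rfl)))
  refine ⟨fun h => hex z h, fun ⟨w, hw⟩ => ?_⟩
  rw [← hw]
  exact ConcreteCategory.congr_hom (K.toCycles_comp_homologyπ (n + 1) n) w

lemma iCycles_map (φ : K ⟶ L) (n : ℕ) (z : (K.cycles n : Type u)) :
    L.iCycles n (HomologicalComplex.cyclesMap φ n z) = φ.f n (K.iCycles n z) :=
  ConcreteCategory.congr_hom (HomologicalComplex.cyclesMap_i φ n) z

lemma π_map (φ : K ⟶ L) (n : ℕ) (z : (K.cycles n : Type u)) :
    HomologicalComplex.homologyMap φ n (K.homologyπ n z) =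
      L.homologyπ n (HomologicalComplex.cyclesMap φ n z) :=
  ConcreteCategory.congr_hom (HomologicalComplex.homologyπ_naturality φ n) z

/-- every homology class comes from the free simplicial group -/
lemma exists_bracket_lift (n : ℕ) (z : ((Alt.obj X).cycles n : Type u)) :
    ∃ t : ((Alt.obj (Fr.obj (Un.obj X))).cycles n : Type u),
      (Alt.obj (Fr.obj (Un.obj X))).iCycles n t =
        bracket X ((PInfty (X := X)).f n ((Alt.obj X).iCycles n z)) ∧
      HomologicalComplex.homologyMap (Alt.map (eps X)) n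
          ((Alt.obj (Fr.obj (Un.obj X))).homologyπ n t) = (Alt.obj X).homologyπ n z := by
  obtain ⟨t, ht⟩ := exists_cycle n _ (bracket_cycle X n ((Alt.obj X).iCycles n z)
    (ConcreteCategory.congr_hom ((Alt.obj X).iCycles_d n _) z))
  refine ⟨t, ht, ?_⟩
  have h1 : HomologicalComplex.cyclesMap (Alt.map (eps X)) n t =
      HomologicalComplex.cyclesMap (PInfty (X := X)) n z :=
    cycles_ext n (by
      rw [iCycles_map, iCycles_map, ht]
      exact eps_bracket X _)
  have h2 : HomologicalComplex.homologyMap (PInfty (X := X)) n = 𝟙 _ := by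
    rw [(homotopyPInftyToId X).homologyMap_eq n, HomologicalComplex.homologyMap_id]
  rw [π_map, h1, ← π_map, h2]
  rfl

variable {X}

lemma isIso_homologyMap {Y : SimplicialObject AddCommGrpCat.{u}} (f : X ⟶ Y) (n : ℕ)
    [IsIso (HomologicalComplex.homologyMap (Alt.map (Fr.map (Un.map f))) n)] :
    IsIso (HomologicalComplex.homologyMap (Alt.map f) n) := by
  have hnat : HomologicalComplex.homologyMap (Alt.map (Fr.map (Un.map f))) n ≫
      HomologicalComplex.homologyMap (Alt.map (eps Y)) n =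
      HomologicalComplex.homologyMap (Alt.map (eps X)) n ≫
        HomologicalComplex.homologyMap (Alt.map f) n := by
    rw [← HomologicalComplex.homologyMap_comp, ← HomologicalComplex.homologyMap_comp,
      ← Functor.map_comp, ← Functor.map_comp, eps_naturality]
  have hbij := (ConcreteCategory.isIso_iff_bijective
    (HomologicalComplex.homologyMap (Alt.map (Fr.map (Un.map f))) n)).1 inferInstance
  rw [ConcreteCategory.isIso_iff_bijective]
  refine ⟨?_, fun c => ?_⟩
  · refine (injective_iff_map_eq_zero (HomologicalComplex.homologyMap (Alt.map f) n).hom).2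
      fun c hc => ?_
    obtain ⟨z, rfl⟩ := class_surjective n c
    obtain ⟨t, ht, hεt⟩ := exists_bracket_lift X n z
    have h0 : (Alt.obj Y).homologyπ n (HomologicalComplex.cyclesMap (Alt.map f) n z) = 0 := by
      rw [← π_map]; exact hc
    obtain ⟨w, hw⟩ := (π_eq_zero_iff n _).1 h0
    let w' := (PInfty (X := Y)).f (n + 1) w
    have hw1 : (Alt.obj Y).d (n + 1) n w = f.app (op ⦋n⦌) ((Alt.obj X).iCycles n z) := by
      refine ((ConcreteCategory.congr_hom ((Alt.obj Y).toCycles_i (n + 1) n) w).symm.trans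
        (congrArg ((Alt.obj Y).iCycles n) hw)).trans ?_
      exact (iCycles_map _ n z).trans rfl
    have hw2 : Y.δ 0 w' = f.app (op ⦋n⦌) ((PInfty (X := X)).f n ((Alt.obj X).iCycles n z)) := by
      rw [← d_normal Y n w' (δ_PInfty Y n w)]
      refine (ConcreteCategory.congr_hom ((PInfty (X := Y)).comm (n + 1) n) w).trans ?_
      refine (congrArg ((PInfty (X := Y)).f n) hw1).trans ?_
      exact ConcreteCategory.congr_hom (PInfty_f_naturality n f) ((Alt.obj X).iCycles n z)
    have hz0 : HomologicalComplex.homologyMap (Alt.map (Fr.map (Un.map f))) n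
        ((Alt.obj (Fr.obj (Un.obj X))).homologyπ n t) = 0 := by
      rw [π_map, π_eq_zero_iff]
      refine ⟨bracket Y w', cycles_ext n ?_⟩
      rw [iCycles_map, ht]
      refine (ConcreteCategory.congr_hom ((Alt.obj (Fr.obj (Un.obj Y))).toCycles_i (n + 1) n) _).trans ?_
      refine (d_bracket Y n w' (δ_PInfty Y n w)).trans ?_
      rw [hw2]
      exact (map_bracket X f _).symm
    rw [← hεt, hbij.1 (hz0.trans
      (map_zero (HomologicalComplex.homologyMap (Alt.map (Fr.map (Un.map f))) n).hom).symm), map_zero]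
  · obtain ⟨z, rfl⟩ := class_surjective n c
    obtain ⟨t, -, hεt⟩ := exists_bracket_lift Y n z
    obtain ⟨a, ha⟩ := hbij.2 ((Alt.obj (Fr.obj (Un.obj Y))).homologyπ n t)
    refine ⟨HomologicalComplex.homologyMap (Alt.map (eps X)) n a, ?_⟩
    refine (ConcreteCategory.congr_hom hnat a).symm.trans ?_
    exact (congrArg (HomologicalComplex.homologyMap (Alt.map (eps Y)) n) ha).trans hεt

lemma homologyMap_eq_of_homotopic {S T : SimplicialObject (Type u)} {a b : S ⟶ T}
    (h : Nonempty (SSet.Homotopy a b) ∨ Nonempty (SSet.Homotopy b a)) (n : ℕ) :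
    HomologicalComplex.homologyMap (Alt.map (Fr.map a)) n =
      HomologicalComplex.homologyMap (Alt.map (Fr.map b)) n := by
  rcases h with h | h
  · obtain ⟨H⟩ := h
    exact (H.toSimplicialObjectHomotopy.whiskerRight AddCommGrpCat.free).toChainHomotopy.homologyMap_eq n
  · obtain ⟨H⟩ := h
    exact ((H.toSimplicialObjectHomotopy.whiskerRight
      AddCommGrpCat.free).toChainHomotopy.homologyMap_eq n).symm

lemma quasiIso_of_homotopyEquiv {Y : SimplicialObject AddCommGrpCat.{u}} (f : X ⟶ Y)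
    (g : Un.obj Y ⟶ Un.obj X)
    (hX : Nonempty (SSet.Homotopy (Un.map f ≫ g) (𝟙 _)) ∨ Nonempty (SSet.Homotopy (𝟙 _) (Un.map f ≫ g)))
    (hY : Nonempty (SSet.Homotopy (g ≫ Un.map f) (𝟙 _)) ∨ Nonempty (SSet.Homotopy (𝟙 _) (g ≫ Un.map f))) :
    QuasiIso (Alt.map f) := by
  refine ⟨fun n => ?_⟩
  rw [quasiIsoAt_iff_isIso_homologyMap]
  haveI : IsIso (HomologicalComplex.homologyMap (Alt.map (Fr.map (Un.map f))) n) := by
    refine ⟨HomologicalComplex.homologyMap (Alt.map (Fr.map g)) n, ?_, ?_⟩
    · rw [← HomologicalComplex.homologyMap_comp, ← Functor.map_comp, ← Functor.map_comp,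
        homologyMap_eq_of_homotopic hX n, CategoryTheory.Functor.map_id, CategoryTheory.Functor.map_id,
        HomologicalComplex.homologyMap_id]
    · rw [← HomologicalComplex.homologyMap_comp, ← Functor.map_comp, ← Functor.map_comp,
        homologyMap_eq_of_homotopic hY n, CategoryTheory.Functor.map_id, CategoryTheory.Functor.map_id,
        HomologicalComplex.homologyMap_id]
  exact isIso_homologyMap f n

end

end Groth.Agent.SSet16
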