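import Mathlib.Algebra.Group.Subgroup.Basic
import Mathlib.Tactic.Group

/-!
Moore's horn filler for simplicial groups, in abstract form.
-/

set_option autoImplicit false

namespace Groth.Agent.SSet16

variable {A B C : Type*} [Group A] [Group B] [Group C]

lemma filler (p k : ℕ) (hk : k ≤ p + 2) (d : ℕ → C →* B) (d' : ℕ → B →* A) (s : ℕ → B →* C)
    (SC : Subgroup C) (SB : Subgroup B)
    (hs : ∀ i y, i ≤ p + 1 → y ∈ SB → s i y ∈ SC) (hd : ∀ i g, i ≤ p + 2 → g ∈ SC → d i g ∈ SB)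
    (h1 : ∀ i y, i ≤ p + 1 → d i (s i y) = y) (h2 : ∀ i y, i ≤ p + 1 → d (i + 1) (s i y) = y)
    (h3 : ∀ i j y, j < i → i ≤ p + 1 → d' j y = 1 → d j (s i y) = 1)
    (h4 : ∀ i j y, i + 1 < j → j ≤ p + 2 → d' (j - 1) y = 1 → d j (s i y) = 1)
    (h5 : ∀ a b g, a ≤ b → b ≤ p + 1 → d' a (d (b + 1) g) = d' b (d a g))
    (x : ℕ → B) (hxS : ∀ i, i ≤ p + 2 → i ≠ k → x i ∈ SB)
    (hx : ∀ a b, a ≤ b → b ≤ p + 1 → a ≠ k → b + 1 ≠ k → d' a (x (b + 1)) = d' b (x a)) :
    ∃ g ∈ SC, ∀ j, j ≤ p + 2 → j ≠ k → d j g = x j := by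
  -- the correcting term
  let y : C → ℕ → B := fun g i => (d i g)⁻¹ * x i
  have yS : ∀ g i, g ∈ SC → i ≤ p + 2 → i ≠ k → y g i ∈ SB := fun g i hg hi hik =>
    mul_mem (inv_mem (hd i g hi hg)) (hxS i hi hik)
  have fix1 : ∀ g i, i ≤ p + 1 → d i (g * s i (y g i)) = x i := fun g i hi => by
    rw [map_mul, h1 _ _ hi, mul_inv_cancel_left]
  -- a correction does not disturb a face which is already right
  have low : ∀ g i j, j < i → i ≤ p + 2 → j ≠ k → i ≠ k → d j g = x j → d' j (y g i) = 1 := by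
    intro g i j hji hi hjk hik hj
    obtain ⟨b, rfl⟩ : ∃ b, i = b + 1 := ⟨i - 1, by omega⟩
    rw [map_mul, map_inv, h5 j b g (by omega) (by omega), hj, hx j b (by omega) (by omega) hjk hik,
      inv_mul_cancel]
  have high : ∀ g i j, i < j → j ≤ p + 2 → j ≠ k → i ≠ k → d j g = x j →
      d' (j - 1) (y g i) = 1 := by
    intro g i j hij hj hjk hik hgj
    obtain ⟨b, rfl⟩ : ∃ b, j = b + 1 := ⟨j - 1, by omega⟩
    rw [Nat.add_sub_cancel, map_mul, map_inv, ← h5 i b g (by omega) (by omega), hgj,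
      hx i b (by omega) (by omega) hik hjk, inv_mul_cancel]
  have up : ∀ i, i ≤ k → ∃ g ∈ SC, ∀ j, j < i → d j g = x j := by
    intro i
    induction i with
    | zero => exact fun _ => ⟨1, one_mem _, fun j hj => absurd hj (Nat.not_lt_zero _)⟩
    | succ i ih =>
      intro hi
      obtain ⟨g, hg, hgj⟩ := ih (by omega)
      refine ⟨g * s i (y g i), mul_mem hg (hs _ _ (by omega) (yS g i hg (by omega) (by omega))),
        fun j hj => ?_⟩
      rcases Nat.lt_succ_iff_lt_or_eq.1 hj with hj' | rfl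
      · rw [map_mul, h3 i j _ hj' (by omega) (low g i j hj' (by omega) (by omega) (by omega) (hgj j hj')),
          mul_one, hgj j hj']
      · exact fix1 g j (by omega)
  have down : ∀ t, ∃ g ∈ SC, (∀ j, j < k → d j g = x j) ∧
      ∀ j, j ≤ p + 2 → p + 2 < j + t → k < j → d j g = x j := by
    intro t
    induction t with
    | zero =>
      obtain ⟨g, hg, hgj⟩ := up k le_rfl
      exact ⟨g, hg, hgj, fun j hj hj' _ => by omega⟩
    | succ t ih =>
      obtain ⟨g, hg, hlo, hhi⟩ := ih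
      by_cases hit : p + 2 - t ≤ k ∨ p + 2 < t
      · exact ⟨g, hg, hlo, fun j hj hj' hkj => hhi j hj (by omega) hkj⟩
      · obtain ⟨i, hi⟩ : ∃ i, p + 2 - t = i + 1 := ⟨p + 2 - t - 1, by omega⟩
        refine ⟨g * s i (y g (i + 1)),
          mul_mem hg (hs _ _ (by omega) (yS g _ hg (by omega) (by omega))), fun j hj => ?_,
          fun j hj hj' hkj => ?_⟩
        · rw [map_mul, h3 i j _ (by omega) (by omega)
            (low g (i + 1) j (by omega) (by omega) (by omega) (by omega) (hlo j hj)), mul_one, hlo j hj]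
        · rcases eq_or_ne j (i + 1) with rfl | hne
          · rw [map_mul, h2 _ _ (by omega), mul_inv_cancel_left]
          · have hgj := hhi j hj (by omega) hkj
            rw [map_mul, h4 i j _ (by omega) hj
              (high g (i + 1) j (by omega) hj (by omega) (by omega) hgj), mul_one, hgj]
  obtain ⟨g, hg, hlo, hhi⟩ := down (p + 3)
  refine ⟨g, hg, fun j hj hjk => ?_⟩
  rcases Nat.lt_or_gt_of_ne hjk with h | h
  · exact hlo j h
  · exact hhi j hj (by omega) h

end Groth.Agent.SSet16
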